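import Groth.Agent.L02.NeutralOpen.Mul
import Groth.Agent.Lead.GrpFibreDim
import Groth.Agent.L23.LocalDimEtale
import Groth.Agent.L23.SchemeFlatAt
import Groth.Agent.L07.SectionCompFP
import Groth.Agent.L07.SectionCompOpen
import Groth.Agent.L07.UnivOpenAt
import Groth.Agent.L05.Point.FibreGlobal
import Groth.Agent.L11.IsoNat.CleanOpen.Unr
import Groth.Agent.L21.Smooth.Scheme
import Groth.Agent.S4955
import Groth.Agent.S1326
import Groth.Prelude.Def_FDesc
import Mathlib.AlgebraicGeometry.Geometrically.Irreducible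

/-!
# The neutral set in an affine chart containing the unit section
-/

set_option autoImplicit false
set_option linter.style.haveILetI false
set_option backward.isDefEq.respectTransparency.types false
set_option backward.isDefEq.respectTransparency false
universe u

open CategoryTheory CategoryTheory.Limits MonoidalCategory CartesianMonoidalCategory MonObj AlgebraicGeometry
open Groth.L25
open Groth.Lead.Neutral (fib)

namespace Groth.L02.NeutralOpen

/-- The stalks of a base change of a scheme smooth near a point are reduced over that point. -/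
theorem isGeomReducedAt_of_nhd_smooth {k : Type u} [Field k] {X : Scheme.{u}}
    (f : X ⟶ Spec (CommRingCat.of k)) {x : X} (h : Groth.L05.Point.Nhd @Smooth f x) :
    FBase.IsGeomReducedAt f x := by
  intro K _ _ x' hx'
  obtain ⟨O, hxO, hO⟩ := Groth.L05.Point.nhd_of_isPullback (P := @Smooth)
    (IsPullback.of_hasPullback f (Spec.map (CommRingCat.ofHom (algebraMap k K)))) x'
    (show Groth.L05.Point.Nhd @Smooth f _ by erw [hx']; exact h)
  haveI := hO
  haveI := Groth.L21.Smooth.isDomain_stalk (O.ι ≫ pullback.snd f _) (⟨x', hxO⟩ : O.toScheme)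
  haveI : IsDomain ((FBase.bc f K).presheaf.stalk x') :=
    (O.stalkIso ⟨x', hxO⟩).commRingCatIsoToRingEquiv.symm.toMulEquiv.isDomain _
  infer_instance

/-- A morphism universally open at every point is universally open. -/
theorem universallyOpen_of_forall {X Y : Scheme.{u}} {f : X ⟶ Y} (h : ∀ x, EGA43.IsUnivOpenAt f x) :
    UniversallyOpen f := by
  refine ⟨fun X' Y' i₁ i₂ f' sq U hU => isOpen_iff_mem_nhds.2 ?_⟩
  rintro _ ⟨p, hp, rfl⟩
  exact Groth.L07.UnivOpenAt.of_isPullback sq.flip (h _) p rfl U (hU.mem_nhds hp)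

variable {S : Scheme.{u}} (G : Over S) [GrpObj G]

section Big

variable (K : Type u) [Field K]

/-- Components of fibres of group schemes are geometrically irreducible. -/
theorem isIrreducible_bc_comp (y : S) [Algebra (IsLocalRing.ResidueField (S.presheaf.stalk y)) K] :
    IsIrreducible ((FBase.bcπ (G.hom.fiberToSpecResidueField y) K).base ⁻¹'
      connectedComponent (Component.one (fib G y))) := by
  let H := fib G y
  let I := Scheme.IdealSheafData.vanishingIdeal (X := H.left)
    ⟨connectedComponent (Component.one H), isClosed_connectedComponent⟩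
  have hI : Set.range I.subschemeι = connectedComponent (Component.one H) := by
    rw [Scheme.IdealSheafData.range_subschemeι, Scheme.IdealSheafData.coe_support_vanishingIdeal]; rfl
  haveI := Component.geometricallyIrreducible_component H I.subschemeι
    (hI.symm ▸ Groth.Lead.Neutral.component_mem H) (hI.symm ▸ mem_connectedComponent)
  let t : Spec (CommRingCat.of K) ⟶ Spec (CommRingCat.of (IsLocalRing.ResidueField (S.presheaf.stalk y))) :=
    Spec.map (CommRingCat.ofHom (algebraMap (IsLocalRing.ResidueField (S.presheaf.stalk y)) K))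
  haveI : IrreducibleSpace ↥(pullback (I.subschemeι ≫ H.hom) t) :=
    pullback_of_geometrically (GeometricallyIrreducible.geometrically_irreducibleSpace (f := I.subschemeι ≫ H.hom)) K t
  let M : pullback (I.subschemeι ≫ H.hom) t ⟶ pullback H.hom t :=
    pullback.map _ _ H.hom t I.subschemeι (𝟙 _) (𝟙 _) (Category.comp_id _) (by simp)
  have hM : Set.range M = (pullback.fst H.hom t).base ⁻¹' connectedComponent (Component.one H) := by
    show Set.range (pullback.map _ _ H.hom t I.subschemeι (𝟙 _) (𝟙 _) _ _) = _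
    rw [Scheme.Pullback.range_map, hI]
    simp
  have := (IrreducibleSpace.isIrreducible_univ ↥(pullback (I.subschemeι ≫ H.hom) t)).image _
    M.continuous.continuousOn
  rw [Set.image_univ, hM] at this
  exact this

end Big

variable (W : G.left.Opens) (h1 : ∀ s : S, (η[G] : 𝟙_ (Over S) ⟶ G).left s ∈ W)

/-- The structure map of the chart. -/
noncomputable abbrev str : W.toScheme ⟶ S := W.ι ≫ G.hom

/-- The unit section in the chart. -/
noncomputable def sec : S ⟶ W.toScheme :=
  IsOpenImmersion.lift W.ι ((η[G] : 𝟙_ (Over S) ⟶ G).left : S ⟶ G.left) (by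
    rw [Scheme.Opens.range_ι]; rintro _ ⟨s, rfl⟩; exact h1 s)

theorem sec_ι : sec G W h1 ≫ W.ι = ((η[G] : 𝟙_ (Over S) ⟶ G).left : S ⟶ G.left) :=
  IsOpenImmersion.lift_fac _ _ _

theorem sec_str : sec G W h1 ≫ str G W = 𝟙 S := by
  rw [← Category.assoc, sec_ι]
  exact Over.w (η[G] : 𝟙_ (Over S) ⟶ G)

theorem sec_apply (y : S) : W.ι (sec G W h1 y) = (η[G] : 𝟙_ (Over S) ⟶ G).left y := by
  rw [← Scheme.Hom.comp_apply, sec_ι]
  rfl

theorem comp_chart (y : S) : connectedComponentIn ((str G W).base ⁻¹' {y}) ((sec G W h1).base y) =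
    W.ι ⁻¹' connectedComponentIn (G.hom ⁻¹' {y}) ((η[G] : 𝟙_ (Over S) ⟶ G).left y) := by
  set C := connectedComponentIn (G.hom ⁻¹' {y}) ((η[G] : 𝟙_ (Over S) ⟶ G).left y) with hC
  have hmem : (sec G W h1).base y ∈ (str G W).base ⁻¹' {y} :=
    congrArg (fun φ : S ⟶ S => φ y) (sec_str G W h1)
  refine Set.Subset.antisymm (fun x hx => ?_) ?_
  · refine (isPreconnected_connectedComponentIn.image _ W.ι.continuous.continuousOn).subset_connectedComponentIn
      ⟨_, mem_connectedComponentIn hmem, sec_apply G W h1 y⟩ ?_ ⟨x, hx, rfl⟩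
    rintro _ ⟨a, ha, rfl⟩
    exact connectedComponentIn_subset ((str G W).base ⁻¹' {y}) _ ha
  · have hirr := isIrreducible_comp G y
    rw [← hC] at hirr
    have hpi : IsPreirreducible (C ∩ (W : Set G.left)) := fun a b ha hb ⟨p, ⟨hp, hpU⟩, hpa⟩ ⟨q, ⟨hq, hqU⟩, hqb⟩ => by
      obtain ⟨t, ht, ⟨htU, hta⟩, -, htb⟩ := hirr.2 ((W : Set G.left) ∩ a) ((W : Set G.left) ∩ b) (W.2.inter ha)
        (W.2.inter hb) ⟨p, hp, hpU, hpa⟩ ⟨q, hq, hqU, hqb⟩
      exact ⟨t, ⟨ht, htU⟩, hta, htb⟩
    have hpre : _root_.IsPreconnected (W.ι ⁻¹' (C ∩ (W : Set G.left))) :=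
      hpi.isPreconnected.preimage_of_isOpenMap Subtype.val_injective W.ι.isOpenEmbedding.isOpenMap
        (by rw [Scheme.Opens.range_ι]; exact Set.inter_subset_right)
    intro x hx
    refine hpre.subset_connectedComponentIn ?_ ?_ ⟨hx, x.2⟩
    · exact ⟨(sec_apply G W h1 y).symm ▸ mem_connectedComponentIn (hom_one G y), ((sec G W h1).base y).2⟩
    · rintro a ⟨ha, -⟩
      exact connectedComponentIn_subset (G.hom ⁻¹' {y}) _ ha

theorem sectionComponents_chart :
    MoreMor.sectionComponents (str G W) (sec G W h1) = W.ι ⁻¹' SGA3x.neutralSet G := by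
  rw [← sectionComponents_eq]
  ext x
  exact Set.ext_iff.mp (comp_chart G W h1 (str G W x)) x

/-- The map of fibres of the chart into fibres of the group. -/
noncomputable def fibIncl (y : S) : (str G W).fiber y ⟶ G.hom.fiber y :=
  pullback.map _ _ G.hom (S.fromSpecResidueField y) W.ι (𝟙 _) (𝟙 _) (Category.comp_id _) (by simp)

set_option backward.isDefEq.respectTransparency false in
instance (y : S) : IsOpenImmersion (fibIncl G W y) := by unfold fibIncl; infer_instance

theorem fibIncl_ι (y : S) : fibIncl G W y ≫ G.hom.fiberι y = (str G W).fiberι y ≫ W.ι :=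
  pullback.lift_fst _ _ _

theorem fibIncl_str (y : S) :
    fibIncl G W y ≫ G.hom.fiberToSpecResidueField y = (str G W).fiberToSpecResidueField y :=
  (pullback.lift_snd _ _ _).trans (Category.comp_id _)

theorem exists_bcIncl (y : S) (K : Type u) [Field K] [Algebra (IsLocalRing.ResidueField (S.presheaf.stalk y)) K] :
    ∃ M : FBase.bc ((str G W).fiberToSpecResidueField y) K ⟶ FBase.bc (G.hom.fiberToSpecResidueField y) K,
      IsOpenImmersion M ∧ M ≫ FBase.bcπ _ K = FBase.bcπ _ K ≫ fibIncl G W y := by
  refine ⟨pullback.map _ _ _ _ (fibIncl G W y) (𝟙 _) (𝟙 _) (by rw [Category.comp_id, fibIncl_str]) (by simp),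
    inferInstance, pullback.lift_fst _ _ _⟩

include h1 in
theorem hirr_chart (y : S) (K : Type u) [Field K]
    [Algebra (IsLocalRing.ResidueField (S.presheaf.stalk y)) K] :
    IsIrreducible ((FBase.bcπ ((str G W).fiberToSpecResidueField y) K ≫ (str G W).fiberι y).base ⁻¹'
      connectedComponentIn ((str G W).base ⁻¹' {y}) ((sec G W h1).base y)) := by
  obtain ⟨M, hM, hMπ⟩ := exists_bcIncl G W y K
  have e : (FBase.bcπ ((str G W).fiberToSpecResidueField y) K ≫ (str G W).fiberι y).base ⁻¹'
      connectedComponentIn ((str G W).base ⁻¹' {y}) ((sec G W h1).base y) =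
      M.base ⁻¹' ((FBase.bcπ (G.hom.fiberToSpecResidueField y) K).base ⁻¹'
        connectedComponent (Component.one (fib G y))) := by
    rw [comp_chart, comp_eq]
    ext x
    have hx : W.ι ((str G W).fiberι y (FBase.bcπ ((str G W).fiberToSpecResidueField y) K x)) =
        G.hom.fiberι y (FBase.bcπ (G.hom.fiberToSpecResidueField y) K (M x)) := by
      simp only [← Scheme.Hom.comp_apply]
      rw [hMπ, Category.assoc, Category.assoc, fibIncl_ι]
    simp only [Set.mem_preimage, Scheme.Hom.comp_apply]
    rw [hx]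
    exact (G.hom.fiberι y).isEmbedding.injective.mem_set_image
  have hP := isIrreducible_bc_comp G K y
  haveI : Surjective (FBase.bcπ ((str G W).fiberToSpecResidueField y) K) := by
    haveI : Surjective (Spec.map (CommRingCat.ofHom (algebraMap (IsLocalRing.ResidueField (S.presheaf.stalk y)) K))) :=
      ⟨fun p => ⟨IsLocalRing.closedPoint K, Subsingleton.elim (α := PrimeSpectrum (IsLocalRing.ResidueField (S.presheaf.stalk y))) _ _⟩⟩
    exact MorphismProperty.pullback_fst _ _ this
  refine ⟨?_, ?_⟩
  · obtain ⟨z, hz⟩ : (sec G W h1).base y ∈ Set.range ((str G W).fiberι y) := by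
      rw [Scheme.Hom.range_fiberι]
      exact congrArg (fun φ : S ⟶ S => φ y) (sec_str G W h1)
    obtain ⟨x, hx⟩ := (FBase.bcπ ((str G W).fiberToSpecResidueField y) K).surjective z
    refine ⟨x, ?_⟩
    rw [Set.mem_preimage, Scheme.Hom.comp_apply, hx, hz]
    exact mem_connectedComponentIn (congrArg (fun φ : S ⟶ S => φ y) (sec_str G W h1))
  · rw [e]
    intro a b ha hb ⟨p, hp, hpa⟩ ⟨q, hq, hqb⟩
    obtain ⟨r, hr, ⟨w, hwa, hw⟩, ⟨w', hwb, hw'⟩⟩ := hP.2 _ _ (M.isOpenEmbedding.isOpenMap a ha)
      (M.isOpenEmbedding.isOpenMap b hb) ⟨_, hp, p, hpa, rfl⟩ ⟨_, hq, q, hqb, rfl⟩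
    obtain rfl : w = w' := M.isOpenEmbedding.injective (hw.trans hw'.symm)
    exact ⟨w, by subst hw; exact hr, hwa, hwb⟩

theorem geomRed_chart (x : W.toScheme)
    (h : FBase.IsGeomReducedAt (G.hom.fiberToSpecResidueField (G.hom (W.ι x))) (G.hom.asFiber (W.ι x))) :
    FBase.IsGeomReducedAt ((str G W).fiberToSpecResidueField ((str G W).base x)) ((str G W).asFiber x) := by
  intro K _ _ x' hx'
  obtain ⟨M, hM, hMπ⟩ := exists_bcIncl G W ((str G W).base x) K
  have he : (FBase.bcπ (G.hom.fiberToSpecResidueField ((str G W).base x)) K).base (M x') =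
      G.hom.asFiber (W.ι x) := by
    apply (G.hom.fiberι _).isEmbedding.injective
    rw [← Scheme.Hom.comp_apply M, hMπ]
    refine (congrArg (fun z => (G.hom.fiberι _).base ((fibIncl G W _).base z)) hx').trans ?_
    refine ((congr($(fibIncl_ι G W ((str G W).base x)) ((str G W).asFiber x))).trans ?_).trans
      (G.hom.fiberι_asFiber (W.ι x)).symm
    exact congrArg W.ι ((str G W).fiberι_asFiber x)
  letI : Algebra (IsLocalRing.ResidueField (S.presheaf.stalk (G.hom (W.ι x)))) K :=
    ‹Algebra (IsLocalRing.ResidueField (S.presheaf.stalk ((str G W).base x))) K›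
  have := h K (M x') he
  haveI : _root_.IsReduced ((FBase.bc (G.hom.fiberToSpecResidueField ((str G W).base x)) K).presheaf.stalk (M x')) := this
  exact isReduced_of_injective (inv (M.stalkMap x')).hom
    (ConcreteCategory.bijective_of_isIso (inv (M.stalkMap x'))).1

include h1 in
theorem dim_chart [LocallyOfFiniteType G.hom] (y : S) :
    topologicalKrullDim ↥(connectedComponentIn ((str G W).base ⁻¹' {y}) ((sec G W h1).base y)) =
      topologicalKrullDim ↥(G.hom.base ⁻¹' {y}) := by
  rw [Groth.L07.SectionComp.dim_eq_fibreDimAt_section (str G W) (sec G W h1) (sec_str G W h1)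
    (Groth.L07.SectionComp.isIrreducible_of_geom (str G W) (sec G W h1) y (hirr_chart G W h1 y)),
    Groth.L23.fibreDimAt_etale_comp W.ι G.hom]
  rw [show W.ι ((sec G W h1) y) = _ from sec_apply G W h1 y]
  exact (Groth.Lead.GrpFibreDim.dim_eq G y).symm

end Groth.L02.NeutralOpen
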