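import Groth.Agent.L02.NeutralOpen.Main
import Groth.Agent.L02.ConsP.Principle
import Groth.Agent.L23.SchemeFacts
import Groth.Prelude.Def_ProCons

/-!
# Constructibility of the neutral set
-/

set_option autoImplicit false
set_option linter.style.haveILetI false
set_option backward.isDefEq.respectTransparency.types false
set_option backward.isDefEq.respectTransparency false
universe u

open CategoryTheory CategoryTheory.Limits MonoidalCategory CartesianMonoidalCategory MonObj AlgebraicGeometry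
open Groth.L25
open Groth.Lead.Neutral (fib)

namespace Groth.L02.NeutralOpen

variable {S : Scheme.{u}} (G : Over S) [GrpObj G]

theorem mul_image_inter [LocallyOfFiniteType G.hom] (W : G.left.Opens)
    (h1 : ∀ s : S, (η[G] : 𝟙_ (Over S) ⟶ G).left s ∈ W) :
    μ[G].left '' ((fst G G).left ⁻¹' ((W : Set G.left) ∩ SGA3x.neutralSet G) ∩
      (snd G G).left ⁻¹' ((W : Set G.left) ∩ SGA3x.neutralSet G)) = SGA3x.neutralSet G := by
  refine Set.Subset.antisymm ?_ fun x hx => ?_
  · rintro _ ⟨z, ⟨hz1, hz2⟩, rfl⟩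
    exact mul_mem G hz1.2 hz2.2
  let s := G.hom x
  haveI : LocallyOfFiniteType (fib G s).hom := MorphismProperty.pullback_snd _ _ inferInstance
  haveI : IsLocallyNoetherian (fib G s).left := LocallyOfFiniteType.isLocallyNoetherian (fib G s).hom
  obtain ⟨x', hx', hxe⟩ := (Groth.Lead.Neutral.mem_neutralSet_iff G x).1 hx
  obtain ⟨w, hw, hw1, hw2⟩ := exists_mul_eq_component (fib G s)
    (W := G.hom.fiberι s ⁻¹' (W : Set G.left) ∩ connectedComponent (Component.one (fib G s)))
    ((W.isOpen.preimage (G.hom.fiberι s).continuous).inter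
      (Component.isOpen_of_mem (fib G s) (Groth.Lead.Neutral.component_mem (fib G s))))
    ⟨by show G.hom.fiberι s (Component.one (fib G s)) ∈ W
        rw [show G.hom.fiberι s (Component.one (fib G s)) = (η[G] : 𝟙_ (Over S) ⟶ G).left s from
          Groth.Lead.Neutral.fiberι_one G s]
        exact h1 s, mem_connectedComponent⟩ Set.inter_subset_right hx'
  refine ⟨nu G s w, ⟨?_, ?_⟩, by rw [nu_mul, hw, hxe]⟩
  · rw [Set.mem_preimage, nu_fst]; exact ⟨hw1.1, (fib_mem_iff G s _).2 hw1.2⟩
  · rw [Set.mem_preimage, nu_snd]; exact ⟨hw2.1, (fib_mem_iff G s _).2 hw2.2⟩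

section AffineChart

variable (W : G.left.Opens)

/-- Pairs of points of the chart in the neutral set. -/
def pairsSet : Set (pairs G W) :=
  pullback.fst (str G W) (str G W) ⁻¹' (W.ι ⁻¹' SGA3x.neutralSet G) ∩
    pullback.snd (str G W) (str G W) ⁻¹' (W.ι ⁻¹' SGA3x.neutralSet G)

theorem image_pairsSet [LocallyOfFiniteType G.hom] (h1 : ∀ s : S, (η[G] : 𝟙_ (Over S) ⟶ G).left s ∈ W) :
    pairsMul G W '' pairsSet G W = SGA3x.neutralSet G := by
  refine Eq.trans ?_ (mul_image_inter G W h1)
  have e1 : pairsι G W ≫ pullback.fst G.hom G.hom = pullback.fst (str G W) (str G W) ≫ W.ι := pullback.lift_fst _ _ _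
  have e2 : pairsι G W ≫ pullback.snd G.hom G.hom = pullback.snd (str G W) (str G W) ≫ W.ι := pullback.lift_snd _ _ _
  have hf : ∀ q, (fst G G).left (pairsι G W q) = W.ι (pullback.fst (str G W) (str G W) q) := fun q =>
    congrArg (fun φ : pairs G W ⟶ G.left => φ q) e1
  have hs : ∀ q, (snd G G).left (pairsι G W q) = W.ι (pullback.snd (str G W) (str G W) q) := fun q =>
    congrArg (fun φ : pairs G W ⟶ G.left => φ q) e2
  ext x
  constructor
  · rintro ⟨q, ⟨h, h'⟩, rfl⟩
    refine ⟨pairsι G W q, ⟨?_, ?_⟩, rfl⟩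
    · rw [Set.mem_preimage, hf]; exact ⟨(pullback.fst (str G W) (str G W) q).2, h⟩
    · rw [Set.mem_preimage, hs]; exact ⟨(pullback.snd (str G W) (str G W) q).2, h'⟩
  · rintro ⟨z, ⟨h, h'⟩, rfl⟩
    obtain ⟨q, rfl⟩ := (range_pairsι G W).ge ⟨h.1, h'.1⟩
    rw [Set.mem_preimage, hf] at h
    rw [Set.mem_preimage, hs] at h'
    exact ⟨q, ⟨h.2, h'.2⟩, rfl⟩

variable [IsAffine S] [LocallyOfFinitePresentation G.hom]

theorem isAffine_pairs (hW : IsAffineOpen W) : IsAffine (pairs G W) := by
  haveI : IsAffine W.toScheme := hW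
  haveI : IsAffineHom (pullback.fst (str G W) (str G W)) := MorphismProperty.pullback_fst _ _ inferInstance
  exact isAffine_of_isAffineHom (pullback.fst (str G W) (str G W))

theorem lfp_pairsMul : LocallyOfFinitePresentation (pairsMul G W) := by
  refine Groth.L23.lfp_of_comp_lft (pairsMul G W) G.hom ?_
  have e : pairsMul G W ≫ G.hom = pullback.fst (str G W) (str G W) ≫ str G W := by
    rw [pairsMul, Category.assoc, show μ[G].left ≫ G.hom = (fst G G).left ≫ G.hom from
      (Over.w μ[G]).trans (Over.w (fst G G)).symm, ← Category.assoc]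
    exact (congrArg (· ≫ G.hom) (pullback.lift_fst _ _ _)).trans (Category.assoc _ _ _)
  rw [e]
  haveI : LocallyOfFinitePresentation (str G W) := inferInstance
  haveI : LocallyOfFinitePresentation (pullback.fst (str G W) (str G W)) :=
    MorphismProperty.pullback_fst _ _ inferInstance
  infer_instance

theorem isConstructible_pairsSet (hW : IsAffineOpen W)
    (h1 : ∀ s : S, (η[G] : 𝟙_ (Over S) ⟶ G).left s ∈ W) : Topology.IsConstructible (pairsSet G W) := by
  haveI : IsAffine W.toScheme := hW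
  haveI := isAffine_pairs G W hW
  haveI : LocallyOfFinitePresentation (str G W) := inferInstance
  haveI : QuasiCompact (str G W) := (HasAffineProperty.iff_of_isAffine (P := @QuasiCompact)).2 inferInstance
  haveI : QuasiSeparated (str G W) := (HasAffineProperty.iff_of_isAffine (P := @QuasiSeparated)).2 inferInstance
  have hc := Groth.Agent.S1326.result (str G W) (sec G W h1) (sec_str G W h1)
  rw [sectionComponents_chart] at hc
  have hp : ∀ g : pairs G W ⟶ W.toScheme, QuasiCompact g →
      Topology.IsConstructible (g ⁻¹' (W.ι ⁻¹' SGA3x.neutralSet G)) := fun g _ =>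
    hc.isConstructible.preimage g.continuous fun U hU hU' =>
      IsCompact.isRetrocompact (g.isCompact_preimage (U := ⟨U, hU⟩) hU'.isCompact) (hU.preimage g.continuous)
  exact (hp _ inferInstance).inter (hp _ inferInstance)

include S in
theorem exists_piece (hW : IsAffineOpen W) (h1 : ∀ s : S, (η[G] : 𝟙_ (Over S) ⟶ G).left s ∈ W)
    {x : G.left} (hx : x ∈ SGA3x.neutralSet G) {Y : Scheme.{u}} [IsAffine Y] (j : Y ⟶ G.left)
    [IsOpenImmersion j] (hxj : x ∈ Set.range j) :
    ∃ C : Set Y, Topology.IsConstructible C ∧ x ∈ j '' C ∧ j '' C ⊆ SGA3x.neutralSet G := by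
  obtain ⟨q, hq, rfl⟩ := (image_pairsSet G W h1).ge hx
  haveI := isAffine_pairs G W hW
  obtain ⟨P₂, hP₂, hqP, hP₂j⟩ := exists_isAffineOpen_mem_and_subset (X := pairs G W) (x := q)
    (U := pairsMul G W ⁻¹ᵁ j.opensRange) hxj
  haveI : IsAffine P₂.toScheme := hP₂
  have hr : Set.range (P₂.ι ≫ pairsMul G W) ⊆ Set.range j := by
    rintro _ ⟨p, rfl⟩
    exact hP₂j p.2
  let h : P₂.toScheme ⟶ Y := IsOpenImmersion.lift j (P₂.ι ≫ pairsMul G W) hr
  have hhj : h ≫ j = P₂.ι ≫ pairsMul G W := IsOpenImmersion.lift_fac _ _ _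
  haveI := lfp_pairsMul G W
  haveI : LocallyOfFinitePresentation h := by
    refine Groth.L23.lfp_of_comp_lft h j ?_
    rw [hhj]
    infer_instance
  have hZ : Topology.IsConstructible (P₂.ι ⁻¹' pairsSet G W) :=
    (isConstructible_pairsSet G W hW h1).preimage_of_isOpenEmbedding P₂.ι.isOpenEmbedding
  refine ⟨h '' (P₂.ι ⁻¹' pairsSet G W), h.isConstructible_image hZ, ⟨h ⟨q, hqP⟩, ⟨_, hq, rfl⟩, ?_⟩, ?_⟩
  · rw [← Scheme.Hom.comp_apply, hhj]; rfl
  · rintro _ ⟨_, ⟨p, hp, rfl⟩, rfl⟩
    rw [← Scheme.Hom.comp_apply, hhj]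
    exact (image_pairsSet G W h1).le ⟨_, hp, rfl⟩

theorem isLocallyConstructible_affineBase [QuasiSeparated G.hom] (hW : IsAffineOpen W)
    (h1 : ∀ s : S, (η[G] : 𝟙_ (Over S) ⟶ G).left s ∈ W) :
    Topology.IsLocallyConstructible (SGA3x.neutralSet G) := by
  haveI := lfp_pairsMul G W
  haveI := isAffine_pairs G W hW
  haveI : QuasiCompact (pairsMul G W ≫ G.hom) := (HasAffineProperty.iff_of_isAffine (P := @QuasiCompact)).2 inferInstance
  haveI : QuasiCompact (pairsMul G W) := QuasiCompact.of_comp (pairsMul G W) G.hom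
  rw [← image_pairsSet G W h1]
  exact (pairsMul G W).isLocallyConstructible_image (isConstructible_pairsSet G W hW h1).isLocallyConstructible

end AffineChart

variable [LocallyOfFinitePresentation G.hom]

theorem isIndConstructible : ProCons.IsIndConstructible (SGA3x.neutralSet G) := by
  refine L02.ConsP.isIndConstructible_of_affine fun U hU p hp => ?_
  let x := hU.fromSpec p
  obtain ⟨V, hsV, hVa, W, hW, -, h1⟩ := exists_chart G ⊤ (G.hom x) trivial
  haveI : IsAffine V.toScheme := hVa
  haveI : LocallyOfFinitePresentation (res G V).hom :=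
    MorphismProperty.pullback_snd _ _ ‹LocallyOfFinitePresentation G.hom›
  obtain ⟨x', hx'⟩ : x ∈ Set.range (resι G V) := (range_resι G V).ge hsV
  obtain ⟨O', hO', hxO', hO'U⟩ := exists_isAffineOpen_mem_and_subset (X := (res G V).left) (x := x')
    (U := resι G V ⁻¹ᵁ hU.fromSpec.opensRange) (show resι G V x' ∈ Set.range hU.fromSpec from hx' ▸ ⟨p, rfl⟩)
  haveI : IsAffine O'.toScheme := hO'
  obtain ⟨C', hC', hxC', hC'n⟩ := exists_piece (res G V) W hW h1
    (x := x') (by rw [neutral_res, Set.mem_preimage, hx']; exact hp) O'.ι (by rw [Scheme.Opens.range_ι]; exact hxO')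
  have hr : Set.range (O'.ι ≫ resι G V) ⊆ Set.range hU.fromSpec := by
    rintro _ ⟨z, rfl⟩; exact hO'U z.2
  let j : O'.toScheme ⟶ Spec Γ(G.left, U) := IsOpenImmersion.lift hU.fromSpec (O'.ι ≫ resι G V) hr
  have hj : j ≫ hU.fromSpec = O'.ι ≫ resι G V := IsOpenImmersion.lift_fac _ _ _
  haveI : IsOpenImmersion j := @IsOpenImmersion.of_comp _ _ _ _ hU.fromSpec _ (by rw [hj]; infer_instance)
  refine ⟨j '' C', j.isConstructible_image hC', ?_, ?_⟩
  · obtain ⟨z, hz, hzx⟩ := hxC'
    refine ⟨z, hz, hU.fromSpec.isOpenEmbedding.injective ?_⟩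
    rw [← Scheme.Hom.comp_apply, hj, Scheme.Hom.comp_apply, hzx, hx']
  · rintro _ ⟨z, hz, rfl⟩
    show hU.fromSpec (j z) ∈ SGA3x.neutralSet G
    rw [← Scheme.Hom.comp_apply, hj, Scheme.Hom.comp_apply]
    have := hC'n ⟨z, hz, rfl⟩
    rwa [neutral_res] at this

theorem isLocallyConstructible [QuasiSeparated G.hom] :
    Topology.IsLocallyConstructible (SGA3x.neutralSet G) := by
  have key : ∀ s : S, ∃ V : S.Opens, s ∈ V ∧ Topology.IsLocallyConstructible (SGA3x.neutralSet (res G V)) := by
    intro s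
    obtain ⟨V, hsV, hVa, W, hW, -, h1⟩ := exists_chart G ⊤ s trivial
    haveI : IsAffine V.toScheme := hVa
    haveI : LocallyOfFinitePresentation (res G V).hom :=
      MorphismProperty.pullback_snd _ _ ‹LocallyOfFinitePresentation G.hom›
    haveI : QuasiSeparated (res G V).hom := MorphismProperty.pullback_snd _ _ ‹QuasiSeparated G.hom›
    exact ⟨V, hsV, isLocallyConstructible_affineBase (res G V) W hW h1⟩
  choose V hsV hc using key
  refine Topology.IsLocallyConstructible.of_isOpenCover (U := fun s => (resι G (V s)).opensRange)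
    (.mk (eq_top_iff.2 fun x _ => TopologicalSpace.Opens.mem_iSup.2 ⟨G.hom x, (range_resι G _).ge (hsV _)⟩)) fun s => ?_
  have h := (hc s).preimage_of_isOpenEmbedding (resι G (V s)).isoOpensRange.inv.isOpenEmbedding
  refine (congrArg Topology.IsLocallyConstructible (Set.ext fun z => ?_)).mp h
  show (resι G (V s)).isoOpensRange.inv z ∈ SGA3x.neutralSet (res G (V s)) ↔ z.1 ∈ SGA3x.neutralSet G
  rw [neutral_res, Set.mem_preimage, ← Scheme.Hom.comp_apply, Scheme.Hom.isoOpensRange_inv_comp]
  rfl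

end Groth.L02.NeutralOpen
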