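import Groth.Agent.L02.NeutralOpen.UnivOpen
import Groth.Agent.L02.NeutralOpen.Cons
import Groth.Agent.L19.Limit.CC
import Groth.Agent.L06.Constr
import Groth.Agent.L25.TrivLocus

/-!
# The neutral set is open over a nonempty open of the base
-/

set_option autoImplicit false
set_option linter.style.haveILetI false
set_option backward.isDefEq.respectTransparency.types false
set_option backward.isDefEq.respectTransparency false
universe u

open CategoryTheory CategoryTheory.Limits MonoidalCategory CartesianMonoidalCategory MonObj AlgebraicGeometry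
open Groth.L25
open Groth.Lead.Neutral (fib)

namespace Groth.L02.NeutralOpen

theorem exists_irreducible_open (S : Scheme.{u}) [IsLocallyNoetherian S] [Nonempty S] :
    ∃ U : S.Opens, IsIrreducible (U : Set S) := by
  obtain ⟨s⟩ := (inferInstance : Nonempty S)
  obtain ⟨V, hV, hsV, -⟩ := exists_isAffineOpen_mem_and_subset (X := S) (x := s) (U := ⊤) trivial
  haveI : IsAffine V.toScheme := hV
  haveI : IsNoetherian V.toScheme := {}
  haveI : TopologicalSpace.NoetherianSpace V.toScheme := IsNoetherian.noetherianSpace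
  let v : V.toScheme := ⟨s, hsV⟩
  obtain ⟨o, ho, hne, hoZ⟩ := TopologicalSpace.NoetherianSpace.exists_isOpen_nonempty_subset_irreducibleComponent
    (α := V.toScheme) (irreducibleComponent v) (irreducibleComponent_mem_irreducibleComponents v)
  have hirr : IsIrreducible o := ⟨hne, isIrreducible_irreducibleComponent.isPreirreducible.open_subset ho hoZ⟩
  exact ⟨⟨V.ι '' o, V.ι.isOpenEmbedding.isOpenMap _ ho⟩, hirr.image _ V.ι.continuous.continuousOn⟩

variable {S : Scheme.{u}} (G : Over S) [GrpObj G]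

theorem hom_resι (V : S.Opens) (x : (res G V).left) : G.hom (resι G V x) = V.ι ((res G V).hom x) :=
  congrArg (fun φ : (res G V).left ⟶ S => φ x) (pullback.condition (f := G.hom) (g := V.ι))

theorem mem_of_specializes_fibre [LocallyOfFiniteType G.hom] {z b : G.left}
    (hb : b ∈ SGA3x.neutralSet G) (hzb : z ⤳ b) (he : G.hom z = G.hom b) : z ∈ SGA3x.neutralSet G := by
  let s := G.hom b
  haveI : LocallyOfFiniteType (fib G s).hom := MorphismProperty.pullback_snd _ _ inferInstance
  haveI : IsLocallyNoetherian (fib G s).left := LocallyOfFiniteType.isLocallyNoetherian (fib G s).hom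
  obtain ⟨b', hb', hbe⟩ := (Groth.Lead.Neutral.mem_neutralSet_iff G b).1 hb
  obtain ⟨z', rfl⟩ := (G.hom.range_fiberι s).ge (show G.hom z = s from he)
  rw [← hbe] at hzb
  exact (fib_mem_iff G s z').2 (((G.hom.fiberι s).isEmbedding.isInducing.specializes_iff.1 hzb).mem_open
    (Component.isOpen_of_mem (fib G s) (Groth.Lead.Neutral.component_mem (fib G s))) hb')

theorem exists_open_base [IsLocallyNoetherian S] [Nonempty S] [LocallyOfFiniteType G.hom] :
    ∃ U : S.Opens, (U : Set S).Nonempty ∧ IsAffineOpen U ∧ IsOpen (SGA3x.neutralSet (res G U)) ∧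
      IsCompact (SGA3x.neutralSet (res G U)) := by
  haveI : LocallyOfFinitePresentation G.hom := Groth.L25.TrivLocus.lfp_of_noetherian G.hom
  obtain ⟨U₀, hU₀⟩ := exists_irreducible_open S
  obtain ⟨s₀, hs₀⟩ := hU₀.nonempty
  obtain ⟨V, hsV, hVa, W, hW, hWO, h1⟩ := exists_chart G (G.hom ⁻¹ᵁ U₀) s₀
    (show G.hom _ ∈ U₀ by rw [hom_one]; exact hs₀)
  haveI : IsAffine V.toScheme := hVa
  haveI : IsAffine W.toScheme := hW
  have hVU : (V : Set S) ⊆ U₀ := fun t ht => by
    have h : G.hom (resι G V ((η[res G V] : 𝟙_ (Over V.toScheme) ⟶ res G V).left ⟨t, ht⟩)) ∈ U₀ := hWO (h1 ⟨t, ht⟩)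
    rw [resι_one, hom_one] at h
    exact h
  haveI : IrreducibleSpace V.toScheme := by
    haveI : IrreducibleSpace ↥(V : Set S) := isIrreducible_iff_irreducibleSpace.mp
      ⟨⟨s₀, hsV⟩, hU₀.isPreirreducible.open_subset V.isOpen hVU⟩
    exact this
  haveI : LocallyOfFinitePresentation (res G V).hom :=
    MorphismProperty.pullback_snd _ _ ‹LocallyOfFinitePresentation G.hom›
  haveI : LocallyOfFiniteType (res G V).hom := inferInstance
  haveI : LocallyOfFinitePresentation (str (res G V) W) := inferInstance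
  haveI : QuasiCompact (str (res G V) W) := (HasAffineProperty.iff_of_isAffine (P := @QuasiCompact)).2 inferInstance
  haveI : QuasiSeparated (str (res G V) W) := (HasAffineProperty.iff_of_isAffine (P := @QuasiSeparated)).2 inferInstance
  haveI : IsLocallyNoetherian W.toScheme := LocallyOfFiniteType.isLocallyNoetherian (str (res G V) W)
  haveI : IsNoetherian W.toScheme := {}
  haveI : IsNoetherian V.toScheme := {}
  let ξ : V.toScheme := genericPoint V.toScheme
  let E : Set W.toScheme := W.ι ⁻¹' SGA3x.neutralSet (res G V)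
  have hE : Topology.IsConstructible E := by
    have hc := Groth.Agent.S1326.result (str (res G V) W) (sec (res G V) W h1) (sec_str (res G V) W h1)
    rw [sectionComponents_chart] at hc
    exact hc.isConstructible
  let B : Set W.toScheme := closure Eᶜ ∩ E
  let Img : Set V.toScheme := str (res G V) W '' B
  have hImg : Topology.IsConstructible Img :=
    (str (res G V) W).isConstructible_image ((Groth.L06.Constr.isConstructible_of_isClosed isClosed_closure).inter hE)
  have hξ : ξ ∉ Img := by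
    rintro ⟨b, ⟨hbc, hbE⟩, hb⟩
    haveI := Groth.L19.Limit.spectralSpace_of_isAffine W.toScheme
    obtain ⟨z, hzE, hzb⟩ := Groth.L06.Spectral.exists_specializes_of_mem_closure
      (Groth.L19.Limit.cc_of_isConstructible hE.compl).isClosed_of_isAffine hbc
    have hz : str (res G V) W z = ξ := by
      have h := hzb.map (str (res G V) W).continuous
      rw [hb] at h
      exact (h.antisymm (genericPoint_specializes _)).eq
    exact hzE (mem_of_specializes_fibre (res G V) hbE (hzb.map W.ι.continuous) (hz.trans hb.symm))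
  obtain ⟨d, hd⟩ := Groth.Lead.GrpFibreDim.exists_nat (res G V) ξ
  let D : Set V.toScheme := interior Imgᶜ ∩ {t | Groth.Lead.GrpFibreDim.dim (res G V) t ≤ (d : WithBot ℕ∞)}
  have hDo : IsOpen D := isOpen_interior.inter (Groth.Lead.GrpFibreDim.isOpen_le _ d)
  have hξD : ξ ∈ D := ⟨L02.ConsP.mem_interior_of_ind
    (L02.ConsP.isIndConstructible_of_isLocallyConstructible hImg.compl.isLocallyConstructible) hξ, hd.le⟩
  have hconst : ∀ t ∈ D, Groth.Lead.GrpFibreDim.dim (res G V) t = (d : WithBot ℕ∞) := fun t ht => by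
    obtain ⟨m, hm⟩ := Groth.Lead.GrpFibreDim.exists_nat (res G V) t
    refine le_antisymm ht.2 ?_
    rw [hm, ← hd]
    exact (genericPoint_specializes t).mem_open (Groth.Lead.GrpFibreDim.isOpen_le (res G V) m) hm.le
  let O₁ : Set (res G V).left := (W : Set (res G V).left) ∩ (res G V).hom ⁻¹' D
  let O₂ : G.left.Opens := ⟨resι G V '' O₁,
    (resι G V).isOpenEmbedding.isOpenMap _ (W.isOpen.inter (hDo.preimage (res G V).hom.continuous))⟩
  have heO : (η[G] : 𝟙_ (Over S) ⟶ G).left (V.ι ξ) ∈ O₂ :=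
    ⟨_, ⟨h1 ξ, show (res G V).hom _ ∈ D by rw [hom_one]; exact hξD⟩, resι_one G V ξ⟩
  obtain ⟨U, hξU, hUa, W₃, hW₃, hW₃O, h3⟩ := exists_chart G O₂ _ heO
  haveI : IsAffine U.toScheme := hUa
  haveI : LocallyOfFinitePresentation (res G U).hom :=
    MorphismProperty.pullback_snd _ _ ‹LocallyOfFinitePresentation G.hom›
  have hopenQ : IsOpen (O₁ ∩ SGA3x.neutralSet (res G V)) := by
    have e : O₁ ∩ SGA3x.neutralSet (res G V) = W.ι '' ((str (res G V) W ⁻¹' D) \ closure Eᶜ) := by
      ext x
      constructor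
      · rintro ⟨⟨hxW, hxD⟩, hxn⟩
        refine ⟨⟨x, hxW⟩, ⟨hxD, fun hcl => ?_⟩, rfl⟩
        exact interior_subset hxD.1 ⟨⟨x, hxW⟩, ⟨hcl, hxn⟩, rfl⟩
      · rintro ⟨w, ⟨hwD, hw⟩, rfl⟩
        exact ⟨⟨w.2, hwD⟩, not_not.1 fun h => hw (subset_closure h)⟩
    rw [e]
    exact W.ι.isOpenEmbedding.isOpenMap _ ((hDo.preimage (str (res G V) W).continuous).sdiff isClosed_closure)
  have hset : (W₃ : Set (res G U).left) ∩ SGA3x.neutralSet (res G U) =
      (W₃ : Set (res G U).left) ∩ resι G U ⁻¹' (resι G V '' (O₁ ∩ SGA3x.neutralSet (res G V))) := by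
    ext x
    refine and_congr_right fun hx => ?_
    obtain ⟨y, hy, hyx⟩ := hW₃O hx
    rw [neutral_res, Set.mem_preimage, Set.mem_preimage, ← hyx]
    constructor
    · exact fun h => ⟨y, ⟨hy, by rw [neutral_res]; exact h⟩, rfl⟩
    · rintro ⟨y', ⟨-, hy'⟩, he⟩
      rw [neutral_res] at hy'
      exact he ▸ hy'
  have hpt : ∀ t : U.toScheme, ∃ v, V.ι v = U.ι t ∧ v ∈ D := fun t => by
    obtain ⟨y, ⟨-, hy⟩, hyx⟩ := hW₃O (h3 t)
    refine ⟨_, ?_, hy⟩
    rw [← hom_resι G V y, hyx, resι_one, hom_one]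
  have hdim : ∀ t : U.toScheme, topologicalKrullDim ↥((res G U).hom.base ⁻¹' {t}) = (d : WithBot ℕ∞) := fun t => by
    obtain ⟨v, hv, hvD⟩ := hpt t
    rw [dim_res, ← hv, ← dim_res G V v]
    exact hconst v hvD
  let Q : (res G U).left.Opens := ⟨(W₃ : Set (res G U).left) ∩ SGA3x.neutralSet (res G U), by
    rw [hset]; exact W₃.isOpen.inter (((resι G V).isOpenEmbedding.isOpenMap _ hopenQ).preimage (resι G U).continuous)⟩
  haveI : UniversallyOpen (Q.ι ≫ (res G U).hom) := universallyOpen_of_forall fun q =>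
    Groth.L07.UnivOpenAt.comp (Groth.L07.SectionComp.isUnivOpenAt_of_universallyOpen Q.ι q)
      (univOpen_of_dim_const (res G U) W₃ hW₃ h3 _ ⟨Set.univ, Filter.univ_mem, fun z _ => (hdim z).trans (hdim _).symm⟩
        _ q.2 rfl)
  haveI : LocallyOfFinitePresentation (str (res G U) W₃) := inferInstance
  obtain ⟨a, b, -⟩ := affine_concl (res G U) W₃ hW₃ h3 Q rfl
  exact ⟨U, ⟨_, hξU⟩, hUa, a, b⟩

theorem isConnected_fibre [LocallyOfFiniteType G.hom] (N : G.left.Opens)
    (hN : (N : Set G.left) = SGA3x.neutralSet G) (s : S) :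
    _root_.IsConnected ((N.ι ≫ G.hom).base ⁻¹' {s}) := by
  have himg : N.ι '' ((N.ι ≫ G.hom).base ⁻¹' {s}) = G.hom.fiberι s '' connectedComponent (Component.one (fib G s)) := by
    rw [← Groth.Lead.Neutral.neutralSet_inter, ← hN]
    ext x
    constructor
    · rintro ⟨z, hz, rfl⟩; exact ⟨z.2, hz⟩
    · rintro ⟨h, h'⟩; exact ⟨⟨x, h⟩, h', rfl⟩
  have hc : _root_.IsConnected (N.ι '' ((N.ι ≫ G.hom).base ⁻¹' {s})) :=
    himg ▸ isConnected_connectedComponent.image _ (G.hom.fiberι s).continuous.continuousOn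
  exact ⟨hc.nonempty.of_image, N.ι.isOpenEmbedding.isEmbedding.isInducing.isPreconnected_image.1 hc.isPreconnected⟩

end Groth.L02.NeutralOpen
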