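import Groth.Agent.L02.NeutralOpen.Chart
import Groth.Agent.S5322
import Groth.Agent.S15351
import Groth.Agent.L19.SmoothLocus

/-!
# Openness, quasi-compactness and smoothness of the neutral set
-/

set_option autoImplicit false
set_option linter.style.haveILetI false
set_option backward.isDefEq.respectTransparency.types false
set_option backward.isDefEq.respectTransparency false
universe u

open CategoryTheory CategoryTheory.Limits MonoidalCategory CartesianMonoidalCategory MonObj AlgebraicGeometry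
open Groth.L25
open Groth.L05.Point

namespace Groth.L02.NeutralOpen

variable {S : Scheme.{u}} (G : Over S) [GrpObj G]

section AffineChart

variable [IsAffine S] (W : G.left.Opens) (hW : IsAffineOpen W)
  (h1 : ∀ s : S, (η[G] : 𝟙_ (Over S) ⟶ G).left s ∈ W)

include hW in
theorem isCompact_inter [LocallyOfFinitePresentation (str G W)]
    (h1 : ∀ s : S, (η[G] : 𝟙_ (Over S) ⟶ G).left s ∈ W) :
    IsCompact ((W : Set G.left) ∩ SGA3x.neutralSet G) := by
  haveI : IsAffine W.toScheme := hW
  haveI : QuasiCompact (str G W) := (HasAffineProperty.iff_of_isAffine (P := @QuasiCompact)).2 inferInstance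
  haveI : QuasiSeparated (str G W) := (HasAffineProperty.iff_of_isAffine (P := @QuasiSeparated)).2 inferInstance
  have hc := Groth.Agent.S1326.result (str G W) (sec G W h1) (sec_str G W h1)
  rw [sectionComponents_chart] at hc
  have h : IsCompact (W.ι ⁻¹' SGA3x.neutralSet G) :=
    Groth.L11.IsoNat.CleanOpen.isCompact_of_isConstructible hc.isConstructible
  have h' := h.image W.ι.continuous
  rwa [Set.image_preimage_eq_inter_range, Scheme.Opens.range_ι, Set.inter_comm] at h'

theorem isOpen_inter_of_smooth (h1 : ∀ s : S, (η[G] : 𝟙_ (Over S) ⟶ G).left s ∈ W)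
    [QuasiSeparatedSpace W.toScheme] [Smooth (str G W)] :
    IsOpen ((W : Set G.left) ∩ SGA3x.neutralSet G) := by
  have ho := Groth.Agent.S15351.result (str G W) (sec G W h1) (sec_str G W h1)
  rw [sectionComponents_chart] at ho
  have h' := W.ι.isOpenEmbedding.isOpenMap _ ho
  rwa [Set.image_preimage_eq_inter_range, Scheme.Opens.range_ι, Set.inter_comm] at h'

include hW in
theorem chart_of_fibres [LocallyOfFinitePresentation G.hom]
    (h1 : ∀ s : S, (η[G] : 𝟙_ (Over S) ⟶ G).left s ∈ W)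
    (hdim : IsLocallyConstant (fun s : S => topologicalKrullDim ↥(G.hom.base ⁻¹' {s})))
    (hsm : ∀ x ∈ SGA3x.neutralSet G, Nhd @Smooth (G.hom.fiberToSpecResidueField (G.hom x)) (G.hom.asFiber x)) :
    ∃ U : G.left.Opens, (U : Set G.left) = (W : Set G.left) ∩ SGA3x.neutralSet G ∧
      UniversallyOpen (U.ι ≫ G.hom) ∧ (IsReduced S → Smooth (U.ι ≫ G.hom)) := by
  haveI : IsAffine W.toScheme := hW
  haveI : LocallyOfFinitePresentation (str G W) := inferInstance
  haveI : QuasiCompact (str G W) := (HasAffineProperty.iff_of_isAffine (P := @QuasiCompact)).2 inferInstance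
  haveI : QuasiSeparated (str G W) := (HasAffineProperty.iff_of_isAffine (P := @QuasiSeparated)).2 inferInstance
  have hconst : ∀ y : S, ∃ V ∈ nhds y, ∀ z ∈ V,
      topologicalKrullDim ↥(connectedComponentIn ((str G W).base ⁻¹' {z}) ((sec G W h1).base z)) =
        topologicalKrullDim ↥(connectedComponentIn ((str G W).base ⁻¹' {y}) ((sec G W h1).base y)) := fun y =>
    ⟨_, hdim.eventually_eq y, fun z hz => by rw [dim_chart, dim_chart]; exact hz⟩
  have hgr : ∀ x : W.toScheme, x ∈ MoreMor.sectionComponents (str G W) (sec G W h1) →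
      FBase.IsGeomReducedAt ((str G W).fiberToSpecResidueField ((str G W).base x)) ((str G W).asFiber x) :=
    fun x hx => geomRed_chart G W x
      (isGeomReducedAt_of_nhd_smooth _ (hsm _ (by rw [sectionComponents_chart] at hx; exact hx)))
  have ho := Groth.L07.SectionComp.isOpen_dim_const_geomRed_fp (str G W) (sec G W h1) (sec_str G W h1)
    (hirr_chart G W h1)
  have hset : {x : W.toScheme | x ∈ MoreMor.sectionComponents (str G W) (sec G W h1) ∧
      (∃ V ∈ nhds ((str G W).base x), ∀ z ∈ V,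
        topologicalKrullDim ↥(connectedComponentIn ((str G W).base ⁻¹' {z}) ((sec G W h1).base z)) =
        topologicalKrullDim ↥(connectedComponentIn ((str G W).base ⁻¹' {((str G W).base x)}) ((sec G W h1).base ((str G W).base x)))) ∧
      FBase.IsGeomReducedAt ((str G W).fiberToSpecResidueField ((str G W).base x)) ((str G W).asFiber x)} =
      W.ι ⁻¹' SGA3x.neutralSet G := by
    rw [← sectionComponents_chart G W h1]
    exact Set.ext fun x => ⟨fun h => h.1, fun h => ⟨h, hconst _, hgr x h⟩⟩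
  rw [hset] at ho
  have h' := W.ι.isOpenEmbedding.isOpenMap _ ho
  rw [Set.image_preimage_eq_inter_range, Scheme.Opens.range_ι, Set.inter_comm] at h'
  let U : G.left.Opens := ⟨_, h'⟩
  have hUW : U ≤ W := fun x hx => hx.1
  have key : ∀ u : U.toScheme, (G.left.homOfLE hUW u) ∈ MoreMor.sectionComponents (str G W) (sec G W h1) := fun u => by
    rw [sectionComponents_chart, Set.mem_preimage, ← Scheme.Hom.comp_apply, Scheme.homOfLE_ι]
    exact u.2.2
  have key' : ∀ u : U.toScheme, EGA43.IsUnivOpenAt (str G W) (G.left.homOfLE hUW u) ∧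
      (IsReduced S → ((str G W).stalkMap (G.left.homOfLE hUW u)).hom.Flat) := fun u => by
    obtain ⟨⟨O, hO, hopen⟩, hflat⟩ := Groth.Agent.S4955.result (str G W) (sec G W h1) (sec_str G W h1)
      (hirr_chart G W h1) _ (key u) (hconst _)
    exact ⟨hopen _ (key u) hO, fun h => hflat h (hgr _ (key u))⟩
  have hfac : G.left.homOfLE hUW ≫ str G W = U.ι ≫ G.hom := Scheme.homOfLE_ι_assoc _ _ _
  refine ⟨U, rfl, ?_, fun hS => ?_⟩
  · refine universallyOpen_of_forall fun u => ?_
    rw [← hfac]
    exact Groth.L07.UnivOpenAt.comp (Groth.L07.SectionComp.isUnivOpenAt_of_universallyOpen _ u) (key' u).1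
  · refine of_forall_nhd (P := @Smooth) fun u => nhd_openImm_comp G.hom U.ι u ?_
    refine nhd_smooth_of_fiber G.hom _ ?_ (hsm _ u.2.2)
    have h := (key' u).2 hS
    rw [Groth.L23.flat_stalkMap_etale_comp_iff W.ι G.hom] at h
    have e : W.ι (G.left.homOfLE hUW u) = U.ι u := congr($(Scheme.homOfLE_ι _ hUW) u)
    exact e ▸ h

end AffineChart

section Affine

variable [IsAffine S] (W : G.left.Opens) (hW : IsAffineOpen W)
  (h1 : ∀ s : S, (η[G] : 𝟙_ (Over S) ⟶ G).left s ∈ W)

include hW h1 in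
theorem affine_concl [LocallyOfFinitePresentation (str G W)] (U : G.left.Opens)
    (hU : (U : Set G.left) = (W : Set G.left) ∩ SGA3x.neutralSet G) [UniversallyOpen (U.ι ≫ G.hom)] :
    IsOpen (SGA3x.neutralSet G) ∧ IsCompact (SGA3x.neutralSet G) ∧ (Smooth (U.ι ≫ G.hom) →
      ∀ N : G.left.Opens, (N : Set G.left) = SGA3x.neutralSet G → Smooth (N.ι ≫ G.hom)) := by
  haveI : CompactSpace U.toScheme := isCompact_iff_compactSpace.1 (hU ▸ isCompact_inter G W hW h1)
  haveI : QuasiCompact (U.ι ≫ G.hom) := (HasAffineProperty.iff_of_isAffine (P := @QuasiCompact)).2 inferInstance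
  have hUn : (U : Set G.left) ⊆ SGA3x.neutralSet G := fun x hx => (hU.le hx).2
  have h1U : ∀ s : S, η[G].left s ∈ U := fun s => hU.ge ⟨h1 s, one_mem G s⟩
  exact ⟨isOpen_of_universallyOpen G U hUn h1U, isCompact_neutral G U hUn h1U,
    fun h N hN => smooth_neutral G U hUn h1U N hN⟩

end Affine

section Base

variable (V : S.Opens)

/-- The restriction of the group to an open of the base. -/
noncomputable abbrev res : Over V.toScheme := Red.bc V.ι G

/-- The inclusion of the restriction. -/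
noncomputable abbrev resι : (res G V).left ⟶ G.left := pullback.fst G.hom V.ι

theorem range_resι : Set.range (resι G V) = G.hom ⁻¹' (V : Set S) := by
  show Set.range (pullback.fst G.hom V.ι) = _
  rw [Scheme.Pullback.range_fst, Scheme.Opens.range_ι]

set_option backward.isDefEq.respectTransparency true in
set_option backward.isDefEq.respectTransparency.types true in
theorem resι_one (t : V.toScheme) :
    resι G V ((η[res G V] : 𝟙_ (Over V.toScheme) ⟶ res G V).left t) = (η[G] : 𝟙_ (Over S) ⟶ G).left (V.ι t) := by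
  have hη : η[res G V].left ≫ pullback.fst G.hom V.ι = V.ι ≫ η[G].left := by
    rw [Functor.obj.η_def, Over.comp_left, Category.assoc]
    show _ ≫ ((Over.pullback V.ι).map η[G]).left ≫ pullback.fst G.hom _ = _
    erw [pullback.lift_fst]
    rw [← Category.assoc]
    congr 1
    simp [Functor.LaxMonoidal.ε]
    have e : pullback.fst (𝟙 S) V.ι = (Functor.OplaxMonoidal.η (Over.pullback V.ι)).left ≫ V.ι := by
      have hw := Over.w (Functor.OplaxMonoidal.η (Over.pullback V.ι))
      have hc := pullback.condition (f := 𝟙 S) (g := V.ι)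
      rw [Category.comp_id] at hc
      exact hc.trans (congrArg (· ≫ _) (hw.symm.trans (Category.comp_id _)))
    rw [e, ← Category.assoc, ← Over.comp_left]
    erw [IsIso.inv_hom_id]
    exact Category.id_comp _
  exact congrArg (fun φ : V.toScheme ⟶ G.left => φ t) hη

theorem neutral_res : SGA3x.neutralSet (res G V) = resι G V ⁻¹' SGA3x.neutralSet G :=
  Groth.Agent.S5322.result S V.toScheme V.ι G

theorem dim_res [LocallyOfFiniteType G.hom] (t : V.toScheme) :
    topologicalKrullDim ↥((res G V).hom.base ⁻¹' {t}) = topologicalKrullDim ↥(G.hom.base ⁻¹' {V.ι t}) := by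
  haveI : LocallyOfFiniteType (res G V).hom := MorphismProperty.pullback_snd _ _ ‹LocallyOfFiniteType G.hom›
  refine (Groth.Lead.GrpFibreDim.dim_eq (res G V) t).trans ?_
  refine Eq.trans ?_ (Groth.Lead.GrpFibreDim.dim_eq G (V.ι t)).symm
  rw [← Groth.L23.fibreDimAt_comp_etale (res G V).hom V.ι,
    show (res G V).hom ≫ V.ι = resι G V ≫ G.hom from pullback.condition.symm,
    Groth.L23.fibreDimAt_etale_comp (resι G V) G.hom, resι_one]

theorem nhd_fibre_res (x : (res G V).left)
    (h : Nhd @Smooth (G.hom.fiberToSpecResidueField (G.hom (resι G V x))) (G.hom.asFiber (resι G V x))) :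
    Nhd @Smooth ((res G V).hom.fiberToSpecResidueField ((res G V).hom x)) ((res G V).hom.asFiber x) := by
  have hx : G.hom (resι G V x) = V.ι ((res G V).hom x) :=
    congrArg (fun φ : (res G V).left ⟶ S => φ x) pullback.condition
  have h0 : ∀ s, G.hom (resι G V x) = s → ∀ z : G.hom.fiber s, G.hom.fiberι s z = resι G V x →
      Nhd @Smooth (G.hom.fiberToSpecResidueField s) z := by
    rintro _ rfl z hz
    rwa [(G.hom.fiberι _).isEmbedding.injective (hz.trans (G.hom.fiberι_asFiber _).symm)]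
  let t := (res G V).hom x
  let r := Spec.map (V.ι.residueFieldMap t)
  have hr : r ≫ S.fromSpecResidueField (V.ι t) = V.toScheme.fromSpecResidueField t ≫ V.ι :=
    Scheme.Hom.SpecMap_residueFieldMap_fromSpecResidueField V.ι t
  have sq := (IsPullback.of_hasPullback (res G V).hom (V.toScheme.fromSpecResidueField t)).paste_horiz
    (IsPullback.of_hasPullback G.hom V.ι)
  let q : (res G V).hom.fiber t ⟶ G.hom.fiber (V.ι t) :=
    pullback.lift ((res G V).hom.fiberι t ≫ resι G V) ((res G V).hom.fiberToSpecResidueField t ≫ r)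
      (by rw [Category.assoc ((res G V).hom.fiberToSpecResidueField t), hr]; exact sq.w)
  have hq : IsPullback q ((res G V).hom.fiberToSpecResidueField t) (G.hom.fiberToSpecResidueField (V.ι t)) r := by
    refine IsPullback.of_right ?_ (pullback.lift_snd _ _ _) (IsPullback.of_hasPullback G.hom (S.fromSpecResidueField (V.ι t)))
    rw [hr, pullback.lift_fst]
    exact sq
  refine nhd_of_isPullback hq _ (h0 _ hx _ ?_)
  rw [← Scheme.Hom.comp_apply, show q ≫ G.hom.fiberι (V.ι t) = (res G V).hom.fiberι t ≫ resι G V from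
    pullback.lift_fst _ _ _, Scheme.Hom.comp_apply, Scheme.Hom.fiberι_asFiber]

end Base

/-- An affine open of the base and an affine open of the group containing the unit section over it. -/
theorem exists_chart (O : G.left.Opens) (s : S) (hs : (η[G] : 𝟙_ (Over S) ⟶ G).left s ∈ O) :
    ∃ V : S.Opens, s ∈ V ∧ IsAffineOpen V ∧ ∃ W : (res G V).left.Opens, IsAffineOpen W ∧
      (W : Set (res G V).left) ⊆ resι G V ⁻¹' (O : Set G.left) ∧
      ∀ t : V.toScheme, (η[res G V] : 𝟙_ (Over V.toScheme) ⟶ res G V).left t ∈ W := by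
  let e : S ⟶ G.left := (η[G] : 𝟙_ (Over S) ⟶ G).left
  obtain ⟨V₁, hV₁, hsV₁, -⟩ := exists_isAffineOpen_mem_and_subset (X := S) (x := s) (U := ⊤) trivial
  obtain ⟨W₁, hW₁, heW₁, hW₁O⟩ := exists_isAffineOpen_mem_and_subset (X := G.left) (x := e s)
    (U := O ⊓ G.hom ⁻¹ᵁ V₁) ⟨hs, show G.hom (e s) ∈ V₁ by rw [show G.hom (e s) = s from hom_one G s]; exact hsV₁⟩
  obtain ⟨r, hr, hsr⟩ := hV₁.exists_basicOpen_le (V := e ⁻¹ᵁ W₁) (x := ⟨s, heW₁⟩) hsV₁
  refine ⟨S.basicOpen r, hsr, hV₁.basicOpen r, resι G _ ⁻¹ᵁ (W₁ ⊓ G.hom ⁻¹ᵁ S.basicOpen r), ?_,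
    fun x hx => (hW₁O hx.1).1, fun t => ?_⟩
  · have haff : IsAffineOpen (W₁ ⊓ G.hom ⁻¹ᵁ S.basicOpen r) := by
      rw [← Scheme.basicOpen_appLE G.hom W₁ V₁ (fun x hx => (hW₁O hx).2) r]
      exact hW₁.basicOpen _
    refine haff.preimage_of_isOpenImmersion _ fun x hx => ?_
    exact (range_resι G _).ge hx.2
  · change resι G (S.basicOpen r) ((η[res G (S.basicOpen r)] : 𝟙_ (Over (S.basicOpen r).toScheme) ⟶ _).left t) ∈
      ((W₁ ⊓ G.hom ⁻¹ᵁ S.basicOpen r : G.left.Opens) : Set G.left)
    rw [resι_one]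
    exact ⟨hr t.2, show G.hom (e (Scheme.Opens.ι _ t)) ∈ S.basicOpen r by
      rw [show G.hom (e (Scheme.Opens.ι _ t)) = Scheme.Opens.ι _ t from hom_one G _]; exact t.2⟩

/-- The conclusions over a base with local charts. -/
theorem glue (h : ∀ s : S, ∃ V : S.Opens, s ∈ V ∧ IsAffineOpen V ∧ IsOpen (SGA3x.neutralSet (res G V)) ∧
      IsCompact (SGA3x.neutralSet (res G V))) :
    IsOpen (SGA3x.neutralSet G) ∧
      ∀ N : G.left.Opens, (N : Set G.left) = SGA3x.neutralSet G → QuasiCompact (N.ι ≫ G.hom) := by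
  choose V hsV hVa ho hc using h
  have himg : ∀ s, resι G (V s) '' SGA3x.neutralSet (res G (V s)) = SGA3x.neutralSet G ∩ G.hom ⁻¹' (V s : Set S) :=
    fun s => by rw [neutral_res, Set.image_preimage_eq_inter_range, range_resι]
  refine ⟨isOpen_iff_forall_mem_open.2 fun x hx => ⟨SGA3x.neutralSet G ∩ G.hom ⁻¹' (V (G.hom x) : Set S),
    Set.inter_subset_left, himg _ ▸ (resι G _).isOpenEmbedding.isOpenMap _ (ho _), hx, hsV _⟩, fun N hN => ?_⟩
  refine IsZariskiLocalAtTarget.of_iSup_eq_top (P := @QuasiCompact) V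
    (eq_top_iff.2 fun s _ => TopologicalSpace.Opens.mem_iSup.2 ⟨s, hsV s⟩) fun s => ?_
  haveI : IsAffine (V s).toScheme := hVa s
  refine (HasAffineProperty.iff_of_isAffine (P := @QuasiCompact)).2 (isCompact_iff_compactSpace.1 ?_)
  have e : (((N.ι ≫ G.hom) ⁻¹ᵁ V s : N.toScheme.Opens) : Set N.toScheme) =
      N.ι ⁻¹' (SGA3x.neutralSet G ∩ G.hom ⁻¹' (V s : Set S)) := by
    rw [← hN]
    ext z
    exact ⟨fun h => ⟨z.2, h⟩, fun h => h.2⟩
  rw [e, N.ι.isOpenEmbedding.isEmbedding.isCompact_iff, Set.image_preimage_eq_of_subset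
    (by rw [Scheme.Opens.range_ι, hN]; exact Set.inter_subset_left), ← himg]
  exact (hc s).image (resι G _).continuous

theorem glue_smooth (h : ∀ s : S, ∃ V : S.Opens, s ∈ V ∧ ∀ N : (res G V).left.Opens,
      (N : Set (res G V).left) = SGA3x.neutralSet (res G V) → Smooth (N.ι ≫ (res G V).hom))
    (N : G.left.Opens) (hN : (N : Set G.left) = SGA3x.neutralSet G) : Smooth (N.ι ≫ G.hom) := by
  refine of_forall_nhd (P := @Smooth) fun z => nhd_openImm_comp G.hom N.ι z ?_
  obtain ⟨V, hzV, hV⟩ := h (G.hom (N.ι z))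
  have := hV (resι G V ⁻¹ᵁ N) (by rw [neutral_res, ← hN]; rfl)
  obtain ⟨w, hw⟩ := (range_resι G V).ge (show N.ι z ∈ G.hom ⁻¹' (V : Set S) from hzV)
  have hwN : w ∈ resι G V ⁻¹ᵁ N := show resι G V w ∈ N from hw ▸ z.2
  rw [← hw]
  haveI : Smooth (((resι G V ⁻¹ᵁ N).ι ≫ resι G V) ≫ G.hom) := by
    rw [Category.assoc, show resι G V ≫ G.hom = (res G V).hom ≫ V.ι from pullback.condition, ← Category.assoc]
    infer_instance
  exact nhd_of_openImm (P := @Smooth) G.hom ((resι G V ⁻¹ᵁ N).ι ≫ resι G V) ⟨w, hwN⟩ inferInstance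

/-- SGA 3 VI_B 4.4: fibres smooth along the neutral components, of locally constant dimension. -/
theorem of_fibres [LocallyOfFinitePresentation G.hom]
    (hdim : IsLocallyConstant (fun s : S => topologicalKrullDim ↥(G.hom.base ⁻¹' {s})))
    (hsm : ∀ x ∈ SGA3x.neutralSet G, Nhd @Smooth (G.hom.fiberToSpecResidueField (G.hom x)) (G.hom.asFiber x)) :
    ∃ N : G.left.Opens, (N : Set G.left) = SGA3x.neutralSet G ∧ QuasiCompact (N.ι ≫ G.hom) ∧
      (IsReduced S → Smooth (N.ι ≫ G.hom)) := by
  have key : ∀ s : S, ∃ V : S.Opens, s ∈ V ∧ IsAffineOpen V ∧ IsOpen (SGA3x.neutralSet (res G V)) ∧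
      IsCompact (SGA3x.neutralSet (res G V)) ∧ (IsReduced S → ∀ N : (res G V).left.Opens,
        (N : Set (res G V).left) = SGA3x.neutralSet (res G V) → Smooth (N.ι ≫ (res G V).hom)) := by
    intro s
    obtain ⟨V, hsV, hVa, W, hW, -, h1⟩ := exists_chart G ⊤ s trivial
    haveI : IsAffine V.toScheme := hVa
    haveI : LocallyOfFinitePresentation (res G V).hom :=
      MorphismProperty.pullback_snd _ _ ‹LocallyOfFinitePresentation G.hom›
    have hd : IsLocallyConstant (fun t : V.toScheme => topologicalKrullDim ↥((res G V).hom.base ⁻¹' {t})) := by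
      simp only [dim_res]
      exact hdim.comp_continuous V.ι.continuous
    have hs' : ∀ x ∈ SGA3x.neutralSet (res G V),
        Nhd @Smooth ((res G V).hom.fiberToSpecResidueField ((res G V).hom x)) ((res G V).hom.asFiber x) :=
      fun x hx => nhd_fibre_res G V x (hsm _ (by rw [neutral_res] at hx; exact hx))
    obtain ⟨U, hU, huo, hsU⟩ := chart_of_fibres (res G V) W hW h1 hd hs'
    obtain ⟨a, b, c⟩ := affine_concl (res G V) W hW h1 U hU
    exact ⟨V, hsV, hVa, a, b, fun hS => c (hsU (isReduced_of_isOpenImmersion V.ι))⟩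
  obtain ⟨hopen, hqc⟩ := glue G fun s => (key s).imp fun V ⟨a, b, c, d, _⟩ => ⟨a, b, c, d⟩
  exact ⟨⟨_, hopen⟩, rfl, hqc _ rfl, fun hS => glue_smooth G
    (fun s => (key s).imp fun V ⟨a, _, _, _, d⟩ => ⟨a, d hS⟩) _ rfl⟩

/-- SGA 3 VI_B 3.10: smooth along the unit section. -/
theorem of_smooth_unit (O : G.left.Opens) [Smooth (O.ι ≫ G.hom)]
    (hO : ∀ s : S, (η[G] : 𝟙_ (Over S) ⟶ G).left s ∈ O) :
    ∃ N : G.left.Opens, (N : Set G.left) = SGA3x.neutralSet G ∧ QuasiCompact (N.ι ≫ G.hom) ∧
      Smooth (N.ι ≫ G.hom) := by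
  have key : ∀ s : S, ∃ V : S.Opens, s ∈ V ∧ IsAffineOpen V ∧ IsOpen (SGA3x.neutralSet (res G V)) ∧
      IsCompact (SGA3x.neutralSet (res G V)) ∧ ∀ N : (res G V).left.Opens,
        (N : Set (res G V).left) = SGA3x.neutralSet (res G V) → Smooth (N.ι ≫ (res G V).hom) := by
    intro s
    obtain ⟨V, hsV, hVa, W, hW, hWO, h1⟩ := exists_chart G O s (hO s)
    haveI : IsAffine V.toScheme := hVa
    haveI : IsAffine W.toScheme := hW
    haveI : Smooth (str (res G V) W) := by
      have hr : Set.range (W.ι ≫ resι G V) ⊆ Set.range O.ι := by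
        rw [Scheme.Opens.range_ι]; rintro _ ⟨w, rfl⟩; exact hWO w.2
      haveI : Smooth ((W.ι ≫ resι G V) ≫ G.hom) := by
        rw [← IsOpenImmersion.lift_fac O.ι (W.ι ≫ resι G V) hr, Category.assoc]
        haveI : IsOpenImmersion (IsOpenImmersion.lift O.ι (W.ι ≫ resι G V) hr) :=
          @IsOpenImmersion.of_comp _ _ _ _ O.ι _ (by rw [IsOpenImmersion.lift_fac]; infer_instance)
        infer_instance
      haveI : Smooth (str (res G V) W ≫ V.ι) := by
        have e : str (res G V) W ≫ V.ι = (W.ι ≫ resι G V) ≫ G.hom := by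
          rw [Category.assoc, Category.assoc]
          exact congrArg (W.ι ≫ ·) (pullback.condition (f := G.hom) (g := V.ι)).symm
        rw [e]
        infer_instance
      exact MorphismProperty.of_postcomp (W := @Smooth) (W' := @IsOpenImmersion) _ V.ι inferInstance inferInstance
    let U : (res G V).left.Opens := ⟨_, isOpen_inter_of_smooth (res G V) W h1⟩
    haveI : Smooth (U.ι ≫ (res G V).hom) := by
      rw [← Scheme.homOfLE_ι _ (show U ≤ W from fun x hx => hx.1), Category.assoc]
      exact IsZariskiLocalAtSource.comp (P := @Smooth) ‹Smooth (str (res G V) W)› _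
    obtain ⟨a, b, c⟩ := affine_concl (res G V) W hW h1 U rfl
    exact ⟨V, hsV, hVa, a, b, c inferInstance⟩
  obtain ⟨hopen, hqc⟩ := glue G fun s => (key s).imp fun V ⟨a, b, c, d, _⟩ => ⟨a, b, c, d⟩
  exact ⟨⟨_, hopen⟩, rfl, hqc _ rfl, glue_smooth G (fun s => (key s).imp fun V ⟨a, _, _, _, d⟩ => ⟨a, d⟩) _ rfl⟩

end Groth.L02.NeutralOpen
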