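import Groth.Agent.Lead.NeutralCover
import Groth.Agent.L09.GrpQuot
import Groth.Agent.L23.FppfSmooth
import Groth.Prelude.Def_SGA3x
import Groth.Prelude.Def_MoreMor

/-!
# The neutral set is the product of two copies of a neighbourhood of the unit section
-/

set_option autoImplicit false
set_option linter.style.haveILetI false
universe u

open CategoryTheory CategoryTheory.Limits MonoidalCategory CartesianMonoidalCategory MonObj AlgebraicGeometry
open Groth.L25
open Groth.Lead.Neutral (fib)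

namespace Groth.L02.NeutralOpen

/-- `exists_mul_eq_component` for a neighbourhood of the unit inside the component, without finiteness. -/
theorem exists_mul_eq_component {k : Type u} [Field k] (G : Over (Spec (CommRingCat.of k))) [GrpObj G]
    {W : Set G.left} (hW : IsOpen W) (h1 : Component.one G ∈ W)
    (hWC : W ⊆ connectedComponent (Component.one G))
    {x : G.left} (hx : x ∈ connectedComponent (Component.one G)) :
    ∃ w : (G ⊗ G).left, μ[G].left w = x ∧ (fst G G).left w ∈ W ∧ (snd G G).left w ∈ W := by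
  have hC := Groth.Lead.Neutral.component_isSubgroupSet G
  let C := connectedComponent (Component.one G)
  have hirr : IsIrreducible C := (Groth.Lead.Neutral.component_mem G).1
  have hD : Dense (W ∪ Cᶜ) := fun y => by
    rw [closure_union]
    by_cases hy : y ∈ C
    · exact Or.inl (mem_closure_iff.2 fun O hO hyO => by
        obtain ⟨z, -, hzO, hzW⟩ := hirr.2 O W hO hW ⟨y, hy, hyO⟩ ⟨_, mem_connectedComponent, h1⟩
        exact ⟨z, hzO, hzW⟩)
    · exact Or.inr (subset_closure hy)
  have hne : ((fst G (Translate.pts x)).left ⁻¹' W).Nonempty := by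
    obtain ⟨z, hz⟩ := (Translate.fst_props x).2.1 (Component.one G)
    exact ⟨z, by rw [Set.mem_preimage, hz]; exact h1⟩
  obtain ⟨z, hz1, hz2⟩ := (hD.preimage (Translate.psi_props x).1).inter_open_nonempty _
    (hW.preimage (fst G (Translate.pts x)).left.continuous) hne
  obtain ⟨w, hw, hf, hs⟩ := Translate.exists_mul_eq x z
  refine ⟨w, hw, hf ▸ hz1, ?_⟩
  have hsC : (snd G G).left w ∈ C := by
    let m : G ⊗ G ⟶ G ⊗ G := lift (fst G G)⁻¹ μ[G]
    have hm : m ≫ μ[G] = snd G G := by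
      simp [m, MonObj.mul_eq_mul G, MonObj.comp_mul]
    have := hC.mul_mem (m.left w) (by
        rw [← Scheme.Hom.comp_apply, ← Over.comp_left, lift_fst,
          show (fst G G)⁻¹ = fst G G ≫ GrpObj.inv from Hom.inv_def _, Over.comp_left, Scheme.Hom.comp_apply]
        exact hC.inv_mem _ (hf ▸ hWC hz1))
      (by rw [← Scheme.Hom.comp_apply, ← Over.comp_left, lift_snd, hw]; exact hx)
    rwa [← Scheme.Hom.comp_apply, ← Over.comp_left, hm] at this
  rcases hz2 with h | h
  · exact hs ▸ h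
  · exact absurd hsC (hs ▸ h)

variable {S : Scheme.{u}} (G : Over S) [GrpObj G]

theorem hom_one (s : S) : G.hom (η[G].left s) = s :=
  (congrArg (fun φ : (𝟙_ (Over S)).left ⟶ S => φ s) (Over.w (η[G] : 𝟙_ (Over S) ⟶ G))).trans rfl

theorem fib_mem_iff (s : S) (x : (fib G s).left) :
    G.hom.fiberι s x ∈ SGA3x.neutralSet G ↔ x ∈ connectedComponent (Component.one (fib G s)) := by
  have hs : G.hom (G.hom.fiberι s x) = s := (G.hom.range_fiberι s).le ⟨x, rfl⟩
  constructor
  · intro h
    obtain ⟨y, hy, hyx⟩ := (Groth.Lead.Neutral.neutralSet_inter G s).le ⟨h, hs⟩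
    exact (G.hom.fiberι s).isEmbedding.injective hyx ▸ hy
  · exact fun h => ((Groth.Lead.Neutral.neutralSet_inter G s).ge ⟨x, h, rfl⟩).1

theorem one_mem (s : S) : η[G].left s ∈ SGA3x.neutralSet G := by
  rw [← Groth.Lead.Neutral.fiberι_one]
  exact (fib_mem_iff G s _).2 mem_connectedComponent

theorem sectionComponents_eq :
    MoreMor.sectionComponents G.hom (η[G] : 𝟙_ (Over S) ⟶ G).left = SGA3x.neutralSet G := by
  ext x
  constructor
  · exact fun h => Set.mem_iUnion.2 ⟨G.hom x, h⟩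
  · intro h
    obtain ⟨p, hp⟩ := Set.mem_iUnion.1 h
    have hps : G.hom x = p := (connectedComponentIn_subset _ _ hp : x ∈ _)
    subst hps
    exact hp

theorem comp_eq (s : S) : connectedComponentIn (G.hom ⁻¹' {s}) ((η[G] : 𝟙_ (Over S) ⟶ G).left s) =
    G.hom.fiberι s '' connectedComponent (Component.one (fib G s)) := by
  rw [← Groth.Lead.Neutral.neutralSet_inter]
  ext x
  constructor
  · intro h
    have hx : G.hom x = s := (connectedComponentIn_subset _ _ h : x ∈ _)
    exact ⟨Set.mem_iUnion.2 ⟨s, h⟩, hx⟩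
  · rintro ⟨h, rfl : G.hom x = s⟩
    rw [← sectionComponents_eq] at h
    exact h

theorem isIrreducible_comp (s : S) :
    IsIrreducible (connectedComponentIn (G.hom ⁻¹' {s}) ((η[G] : 𝟙_ (Over S) ⟶ G).left s)) := by
  rw [comp_eq]
  exact (Groth.Lead.Neutral.component_mem (fib G s)).1.image _ (G.hom.fiberι s).continuous.continuousOn

/-- The comparison of the fibres of `G ⊗ G` with pairs in the fibres of `G`. -/
noncomputable def nu (s : S) : (fib G s ⊗ fib G s).left ⟶ (G ⊗ G).left :=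
  (Functor.LaxMonoidal.μ (Over.pullback (S.fromSpecResidueField s)) G G).left ≫
    pullback.fst (G ⊗ G).hom (S.fromSpecResidueField s)

theorem nu_comp (s : S) (φ : G ⊗ G ⟶ G) :
    nu G s ≫ φ.left = (Functor.LaxMonoidal.μ (Over.pullback (S.fromSpecResidueField s)) G G ≫
      (Over.pullback (S.fromSpecResidueField s)).map φ).left ≫ G.hom.fiberι s := by
  rw [nu, Over.comp_left, Category.assoc, Category.assoc]
  exact congrArg _ (pullback.lift_fst _ _ _).symm

theorem nu_fst (s : S) (w : (fib G s ⊗ fib G s).left) :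
    (fst G G).left (nu G s w) = G.hom.fiberι s ((fst (fib G s) (fib G s)).left w) := by
  rw [← Scheme.Hom.comp_apply, nu_comp, Functor.Monoidal.μ_fst, Scheme.Hom.comp_apply]
  rfl

theorem nu_snd (s : S) (w : (fib G s ⊗ fib G s).left) :
    (snd G G).left (nu G s w) = G.hom.fiberι s ((snd (fib G s) (fib G s)).left w) := by
  rw [← Scheme.Hom.comp_apply, nu_comp, Functor.Monoidal.μ_snd, Scheme.Hom.comp_apply]
  rfl

theorem nu_mul (s : S) (w : (fib G s ⊗ fib G s).left) :
    μ[G].left (nu G s w) = G.hom.fiberι s (μ[fib G s].left w) := by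
  rw [← Scheme.Hom.comp_apply, nu_comp, ← Functor.obj.μ_def, Scheme.Hom.comp_apply]
  rfl

theorem mul_mem {z : (G ⊗ G).left} (h1 : (fst G G).left z ∈ SGA3x.neutralSet G)
    (h2 : (snd G G).left z ∈ SGA3x.neutralSet G) : μ[G].left z ∈ SGA3x.neutralSet G := by
  let s := (G ⊗ G).hom z
  obtain ⟨a, ha⟩ : z ∈ Set.range (pullback.fst (G ⊗ G).hom (S.fromSpecResidueField s)) :=
    ((G ⊗ G).hom.range_fiberι s).ge rfl
  haveI : IsIso (Functor.LaxMonoidal.μ (Over.pullback (S.fromSpecResidueField s)) G G).left :=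
    inferInstanceAs (IsIso ((Over.forget _).map (Functor.LaxMonoidal.μ (Over.pullback (S.fromSpecResidueField s)) G G)))
  obtain ⟨w, rfl⟩ := (Functor.LaxMonoidal.μ (Over.pullback (S.fromSpecResidueField s)) G G).left.surjective a
  have hz : nu G s w = z := ha
  rw [← hz, nu_fst, fib_mem_iff] at h1
  rw [← hz, nu_snd, fib_mem_iff] at h2
  rw [← hz, nu_mul, fib_mem_iff]
  exact (Groth.Lead.Neutral.component_isSubgroupSet (fib G s)).mul_mem w h1 h2

theorem inv_mem {x : G.left} (h : x ∈ SGA3x.neutralSet G) :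
    (GrpObj.inv (X := G)).left x ∈ SGA3x.neutralSet G := by
  rw [← sectionComponents_eq] at h ⊢
  have hi : ∀ y, G.hom ((GrpObj.inv (X := G)).left y) = G.hom y := fun y => by
    rw [← Scheme.Hom.comp_apply, Over.w]
  show (GrpObj.inv (X := G)).left x ∈ connectedComponentIn (G.hom ⁻¹' {G.hom ((GrpObj.inv (X := G)).left x)}) _
  rw [hi]
  have he : (GrpObj.inv (X := G)).left ((η[G] : 𝟙_ (Over S) ⟶ G).left (G.hom x)) =
      (η[G] : 𝟙_ (Over S) ⟶ G).left (G.hom x) := by
    rw [← Scheme.Hom.comp_apply, ← Over.comp_left, GrpObj.one_inv]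
  refine (IsPreconnected.image (isPreconnected_connectedComponentIn) _
    (GrpObj.inv (X := G)).left.continuous.continuousOn).subset_connectedComponentIn
      ⟨_, mem_connectedComponentIn (hom_one G _), he⟩ ?_ ⟨x, h, rfl⟩
  rintro _ ⟨y, hy, rfl⟩
  exact (hi y).trans (connectedComponentIn_subset (G.hom ⁻¹' {G.hom x}) _ hy)

/-- The products of pairs from `U`. -/
theorem mul_image_eq {U : Set G.left} (hU : IsOpen U) (hUn : U ⊆ SGA3x.neutralSet G)
    (h1 : ∀ s : S, η[G].left s ∈ U) :
    μ[G].left '' ((fst G G).left ⁻¹' U ∩ (snd G G).left ⁻¹' U) = SGA3x.neutralSet G := by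
  refine Set.Subset.antisymm ?_ fun x hx => ?_
  · rintro _ ⟨z, ⟨hz1, hz2⟩, rfl⟩
    exact mul_mem G (hUn hz1) (hUn hz2)
  obtain ⟨x', hx', hxe⟩ := (Groth.Lead.Neutral.mem_neutralSet_iff G x).1 hx
  obtain ⟨w, hw, hw1, hw2⟩ := exists_mul_eq_component (fib G (G.hom x))
    (hU.preimage (G.hom.fiberι (G.hom x)).continuous)
    (by show G.hom.fiberι (G.hom x) (Component.one (fib G (G.hom x))) ∈ U
        rw [Groth.Lead.Neutral.fiberι_one]; exact h1 _)
    (fun a ha => (fib_mem_iff G _ a).1 (hUn ha)) hx'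
  exact ⟨nu G _ w, ⟨by rw [Set.mem_preimage, nu_fst]; exact hw1, by rw [Set.mem_preimage, nu_snd]; exact hw2⟩,
    by rw [nu_mul, hw, hxe]⟩

/-- The shear `(a, b) ↦ (a, a * b)`. -/
noncomputable def shear : G ⊗ G ≅ G ⊗ G where
  hom := lift (fst G G) μ[G]
  inv := lift (fst G G) ((fst G G)⁻¹ * snd G G)
  hom_inv_id := by
    apply CartesianMonoidalCategory.hom_ext <;> simp [MonObj.mul_eq_mul G, MonObj.comp_mul, GrpObj.comp_inv]
  inv_hom_id := by
    apply CartesianMonoidalCategory.hom_ext <;> simp [MonObj.mul_eq_mul G, MonObj.comp_mul]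

section Chart

variable (U : G.left.Opens)

/-- Pairs of points of `U`. -/
noncomputable abbrev pairs : Scheme.{u} := pullback (U.ι ≫ G.hom) (U.ι ≫ G.hom)

/-- The inclusion of pairs. -/
noncomputable def pairsι : pairs G U ⟶ (G ⊗ G).left :=
  pullback.map _ _ G.hom G.hom U.ι U.ι (𝟙 _) (Category.comp_id _) (Category.comp_id _)

instance : IsOpenImmersion (pairsι G U) := by
  unfold pairsι; infer_instance

theorem range_pairsι : Set.range (pairsι G U) =
    (fst G G).left ⁻¹' (U : Set G.left) ∩ (snd G G).left ⁻¹' (U : Set G.left) := by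
  rw [pairsι, Scheme.Pullback.range_map, Scheme.Opens.range_ι]; rfl

/-- The multiplication on pairs. -/
noncomputable def pairsMul : pairs G U ⟶ G.left := pairsι G U ≫ μ[G].left

theorem range_pairsMul (hUn : (U : Set G.left) ⊆ SGA3x.neutralSet G) (h1 : ∀ s : S, η[G].left s ∈ U) :
    Set.range (pairsMul G U) = SGA3x.neutralSet G := by
  rw [pairsMul, Scheme.Hom.comp_base, TopCat.coe_comp, Set.range_comp, range_pairsι]
  exact mul_image_eq G U.isOpen hUn h1

theorem exists_factor : ∃ a : pairs G U ⟶ pullback (U.ι ≫ G.hom) G.hom, IsOpenImmersion a ∧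
    a ≫ pullback.snd _ _ = pairsMul G U := by
  let b : pullback (U.ι ≫ G.hom) G.hom ⟶ (G ⊗ G).left :=
    pullback.map _ _ G.hom G.hom U.ι (𝟙 _) (𝟙 _) (Category.comp_id _) (by simp)
  haveI : IsOpenImmersion b := by unfold b; infer_instance
  haveI : IsIso (shear G).hom.left := inferInstanceAs (IsIso ((Over.forget _).map (shear G).hom))
  have hsub : Set.range (pairsι G U ≫ (shear G).hom.left) ⊆ Set.range b := by
    have hb : Set.range b = (fst G G).left ⁻¹' (U : Set G.left) := by
      show Set.range (pullback.map _ _ G.hom G.hom U.ι (𝟙 _) (𝟙 _) _ _) = _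
      rw [Scheme.Pullback.range_map, Scheme.Opens.range_ι]
      simp
    rw [hb]
    rintro _ ⟨p, rfl⟩
    show (fst G G).left ((shear G).hom.left (pairsι G U p)) ∈ U
    rw [← Scheme.Hom.comp_apply, ← Over.comp_left, show (shear G).hom ≫ fst G G = fst G G from lift_fst _ _]
    exact ((range_pairsι G U).le ⟨p, rfl⟩).1
  refine ⟨IsOpenImmersion.lift b (pairsι G U ≫ (shear G).hom.left) hsub, ?_, ?_⟩
  · exact @IsOpenImmersion.of_comp _ _ _ _ b _ (by rw [IsOpenImmersion.lift_fac]; infer_instance)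
  · have hb : b ≫ (snd G G).left = pullback.snd (U.ι ≫ G.hom) G.hom :=
      (pullback.lift_snd _ _ _).trans (Category.comp_id _)
    rw [← hb, ← Category.assoc, IsOpenImmersion.lift_fac, Category.assoc, ← Over.comp_left,
      show (shear G).hom ≫ snd G G = μ[G] from lift_snd _ _]
    rfl

theorem isOpen_of_universallyOpen (hUn : (U : Set G.left) ⊆ SGA3x.neutralSet G)
    (h1 : ∀ s : S, η[G].left s ∈ U) [UniversallyOpen (U.ι ≫ G.hom)] : IsOpen (SGA3x.neutralSet G) := by
  obtain ⟨a, ha, he⟩ := exists_factor G U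
  haveI : UniversallyOpen (pullback.snd (U.ι ≫ G.hom) G.hom) := MorphismProperty.pullback_snd _ _ inferInstance
  rw [← range_pairsMul G U hUn h1, ← he]
  exact (a ≫ pullback.snd (U.ι ≫ G.hom) G.hom).isOpenMap.isOpen_range

theorem smooth_pairsMul [Smooth (U.ι ≫ G.hom)] : Smooth (pairsMul G U) := by
  obtain ⟨a, ha, he⟩ := exists_factor G U
  haveI : Smooth (pullback.snd (U.ι ≫ G.hom) G.hom) := MorphismProperty.pullback_snd _ _ inferInstance
  rw [← he]
  infer_instance

theorem smooth_neutral [Smooth (U.ι ≫ G.hom)] (hUn : (U : Set G.left) ⊆ SGA3x.neutralSet G)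
    (h1 : ∀ s : S, η[G].left s ∈ U) (V : G.left.Opens) (hV : (V : Set G.left) = SGA3x.neutralSet G) :
    Smooth (V.ι ≫ G.hom) := by
  haveI := smooth_pairsMul G U
  have hr := range_pairsMul G U hUn h1
  let χ := IsOpenImmersion.lift V.ι (pairsMul G U) (by rw [hr, Scheme.Opens.range_ι, hV])
  have hχ : χ ≫ V.ι = pairsMul G U := IsOpenImmersion.lift_fac _ _ _
  haveI : Smooth (χ ≫ V.ι) := hχ ▸ inferInstance
  haveI : Smooth χ := MorphismProperty.of_postcomp (W := @Smooth) (W' := @IsOpenImmersion) χ V.ι inferInstance inferInstance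
  haveI : Surjective χ := ⟨fun v => by
    obtain ⟨p, hp⟩ := hr.ge (hV.le v.2)
    refine ⟨p, V.ι.isOpenEmbedding.injective ?_⟩
    rw [← Scheme.Hom.comp_apply, hχ, hp]
    rfl⟩
  refine Groth.L23.FppfSmooth.smooth_of_fppf_comp χ _ ?_
  haveI : Smooth (pullback.fst (U.ι ≫ G.hom) (U.ι ≫ G.hom)) := MorphismProperty.pullback_fst _ _ inferInstance
  have e : χ ≫ V.ι ≫ G.hom = pullback.fst (U.ι ≫ G.hom) (U.ι ≫ G.hom) ≫ U.ι ≫ G.hom := by
    rw [← Category.assoc, hχ, pairsMul, Category.assoc, Over.w]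
    exact (Category.assoc _ _ _).symm.trans
      (congrArg (· ≫ G.hom) (pullback.lift_fst _ _ _)) |>.trans (Category.assoc _ _ _)
  rw [e]
  infer_instance

theorem isCompact_neutral [QuasiCompact (U.ι ≫ G.hom)] [CompactSpace U.toScheme]
    (hUn : (U : Set G.left) ⊆ SGA3x.neutralSet G) (h1 : ∀ s : S, η[G].left s ∈ U) :
    IsCompact (SGA3x.neutralSet G) := by
  haveI : CompactSpace (pairs G U) :=
    QuasiCompact.compactSpace_of_compactSpace (pullback.fst (U.ι ≫ G.hom) (U.ι ≫ G.hom))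
  rw [← range_pairsMul G U hUn h1]
  exact isCompact_range (pairsMul G U).continuous

end Chart

/-- An open subgroup scheme with underlying set the neutral set. -/
theorem exists_subgroup (V : G.left.Opens) (hV : (V : Set G.left) = SGA3x.neutralSet G) :
    ∃ (_ : GrpObj (Over.mk (V.ι ≫ G.hom))),
      IsMonHom (Over.homMk V.ι rfl : Over.mk (V.ι ≫ G.hom) ⟶ G) := by
  let i : Over.mk (V.ι ≫ G.hom) ⟶ G := Over.homMk V.ι rfl
  haveI : Mono i := (Over.forget S).mono_of_mono_map (inferInstanceAs (Mono V.ι))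
  have hfac : ∀ {T : Over S} (g : T ⟶ G), (∀ t, g.left t ∈ SGA3x.neutralSet G) →
      ∃ c : T ⟶ Over.mk (V.ι ≫ G.hom), c ≫ i = g := fun {T} g hg => by
    have hr : Set.range g.left ⊆ Set.range V.ι := by
      rw [Scheme.Opens.range_ι, hV]; rintro _ ⟨t, rfl⟩; exact hg t
    refine ⟨Over.homMk (IsOpenImmersion.lift V.ι g.left hr) ?_, Over.OverMorphism.ext (IsOpenImmersion.lift_fac _ _ _)⟩
    show IsOpenImmersion.lift V.ι g.left hr ≫ V.ι ≫ G.hom = T.hom
    rw [IsOpenImmersion.lift_fac_assoc, Over.w]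
  have hin : ∀ {T : Over S} (a : T ⟶ Over.mk (V.ι ≫ G.hom)) (t : T.left), (a ≫ i).left t ∈ SGA3x.neutralSet G :=
    fun a t => hV.le (a.left t).2
  have h1 := hfac η[G] (one_mem G)
  have hm : ∀ (T : Over S) (a b : T ⟶ Over.mk (V.ι ≫ G.hom)), ∃ c : T ⟶ Over.mk (V.ι ≫ G.hom),
      c ≫ i = (a ≫ i) * (b ≫ i) := fun T a b => hfac _ fun t => by
    rw [Hom.mul_def, Over.comp_left, Scheme.Hom.comp_apply]
    refine mul_mem G ?_ ?_
    · rw [← Scheme.Hom.comp_apply, ← Over.comp_left, lift_fst]; exact hin a t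
    · rw [← Scheme.Hom.comp_apply, ← Over.comp_left, lift_snd]; exact hin b t
  have hi : ∀ (T : Over S) (a : T ⟶ Over.mk (V.ι ≫ G.hom)), ∃ c : T ⟶ Over.mk (V.ι ≫ G.hom),
      c ≫ i = (a ≫ i)⁻¹ := fun T a => hfac _ fun t => by
    rw [Hom.inv_def, Over.comp_left, Scheme.Hom.comp_apply]
    exact inv_mem G (hin a t)
  exact ⟨Groth.L09.GrpQuot.grpObjOfClosed i h1 hm hi, Groth.L09.GrpQuot.grpObjOfClosed_isMonHom i h1 hm hi⟩

end Groth.L02.NeutralOpen
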