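import Groth.Agent.L02.NeutralOpen.Cons
import Groth.Agent.L19.Limit.CC
import Groth.Agent.L06.Spectral
import Groth.Agent.L06.Constr
import Groth.Agent.L25.TrivLocus
import Groth.Agent.S5323

/-!
# Points some power of which lies in the neutral set
-/

set_option autoImplicit false
set_option linter.style.haveILetI false
set_option backward.isDefEq.respectTransparency.types false
set_option backward.isDefEq.respectTransparency false
universe u

open CategoryTheory CategoryTheory.Limits MonoidalCategory CartesianMonoidalCategory MonObj AlgebraicGeometry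
open Groth.L25
open Groth.Lead.Neutral (fib)

namespace Groth.L02.NeutralOpen

/-- If all powers of a rational point stay in a compact set some power lies in the neutral component. -/
theorem exists_pow_mem_component {k : Type u} [Field k] (H : Over (Spec (CommRingCat.of k))) [GrpObj H]
    [LocallyOfFiniteType H.hom] (g : 𝟙_ (Over (Spec (CommRingCat.of k))) ⟶ H) {U : Set H.left} (hU : IsCompact U)
    (h : ∀ m : ℕ, (g ^ m).left (IsLocalRing.closedPoint k) ∈ U) :
    ∃ d : ℕ, 0 < d ∧ (g ^ d).left (IsLocalRing.closedPoint k) ∈ connectedComponent (Component.one H) := by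
  haveI : IsLocallyNoetherian H.left := LocallyOfFiniteType.isLocallyNoetherian H.hom
  have hopen : ∀ x : H.left, IsOpen (connectedComponent x) := fun x =>
    Component.isOpen_of_mem H (Component.connectedComponent_mem H x)
  obtain ⟨t, ht⟩ := hU.elim_finite_subcover (fun x : H.left => connectedComponent x) hopen
    (fun x _ => Set.mem_iUnion.2 ⟨x, mem_connectedComponent⟩)
  let pt : ℕ → H.left := fun m => (g ^ m).left (IsLocalRing.closedPoint k)
  have hx : ∀ m, ∃ x : t, pt m ∈ connectedComponent x.1 := fun m => by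
    obtain ⟨x, hx, hxm⟩ := Set.mem_iUnion₂.1 (ht (h m))
    exact ⟨⟨x, hx⟩, hxm⟩
  choose F hF using hx
  obtain ⟨a, b, hab, he⟩ := Finite.exists_ne_map_eq_of_infinite F
  wlog hlt : a < b generalizing a b
  · exact this b a (Ne.symm hab) he.symm (lt_of_le_of_ne (not_lt.1 hlt) (Ne.symm hab))
  obtain ⟨d, rfl⟩ := Nat.exists_eq_add_of_lt hlt
  refine ⟨d + 1, d.succ_pos, ?_⟩
  let φ : H ⟶ H := 𝟙 H * (toUnit H ≫ (g ^ a)⁻¹)
  have hφ : ∀ j : 𝟙_ (Over (Spec (CommRingCat.of k))) ⟶ H, φ.left (j.left (IsLocalRing.closedPoint k)) =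
      (j * (g ^ a)⁻¹).left (IsLocalRing.closedPoint k) := fun j => by
    rw [← Scheme.Hom.comp_apply, ← Over.comp_left,
      show j ≫ φ = j * (g ^ a)⁻¹ by
        simp only [φ, MonObj.comp_mul, Category.comp_id]
        rw [← Category.assoc, toUnit_unique (j ≫ toUnit H) (𝟙 _), Category.id_comp]]
  have hsub := φ.left.continuous.image_connectedComponent_subset (pt a)
  have h1 : φ.left (pt a) = Component.one H := by
    rw [show φ.left (pt a) = _ from hφ _, mul_inv_cancel, ← MonObj.one_eq_one]
    rfl
  have h2 : φ.left (pt (a + d + 1)) = pt (d + 1) := by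
    rw [show φ.left (pt (a + d + 1)) = _ from hφ _, Nat.add_assoc, Nat.add_comm a (d + 1), pow_add,
      mul_inv_cancel_right]
  rw [h1] at hsub
  refine hsub ⟨pt (a + d + 1), ?_, h2⟩
  rw [← connectedComponent_eq (hF a), he]
  exact hF _

variable {S : Scheme.{u}} (G : Over S) [GrpObj G]

/-- The power map on points. -/
noncomputable def pw (n : ℕ) : G.left ⟶ G.left := ((𝟙 G : G ⟶ G) ^ n).left

/-- The set of points with `n`th power in the neutral set. -/
def powSet (n : ℕ) : Set G.left := pw G n ⁻¹' SGA3x.neutralSet G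

/-- The point of `T` given by a point of `G`. -/
noncomputable abbrev ptOver (x : G.left) : Over S := Over.mk (G.left.fromSpecResidueField x ≫ G.hom)

/-- The tautological point. -/
noncomputable abbrev ptHom (x : G.left) : ptOver G x ⟶ G := Over.homMk (G.left.fromSpecResidueField x) rfl

theorem ptHom_pow (x : G.left) (n : ℕ) :
    (ptHom G x ^ n).left (IsLocalRing.closedPoint (G.left.residueField x)) = pw G n x := by
  rw [show ptHom G x ^ n = ptHom G x ≫ (𝟙 G) ^ n by rw [MonObj.comp_pow, Category.comp_id], Over.comp_left,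
    Scheme.Hom.comp_apply]
  exact congrArg _ (Scheme.fromSpecResidueField_apply (x := x) _)

theorem mem_powSet_add {x : G.left} {a b : ℕ} (ha : x ∈ powSet G a) (hb : x ∈ powSet G b) :
    x ∈ powSet G (a + b) := by
  show pw G (a + b) x ∈ SGA3x.neutralSet G
  rw [← ptHom_pow, pow_add, Hom.mul_def, Over.comp_left, Scheme.Hom.comp_apply]
  refine mul_mem G ?_ ?_
  · rw [← Scheme.Hom.comp_apply, ← Over.comp_left, lift_fst]; exact (ptHom_pow G x a).symm ▸ ha
  · rw [← Scheme.Hom.comp_apply, ← Over.comp_left, lift_snd]; exact (ptHom_pow G x b).symm ▸ hb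

theorem mem_powSet_zero (x : G.left) : x ∈ powSet G 0 := by
  show pw G 0 x ∈ SGA3x.neutralSet G
  rw [← ptHom_pow, pow_zero, Hom.one_def, Over.comp_left, Scheme.Hom.comp_apply]
  exact one_mem G _

theorem mem_powSet_mul {x : G.left} {a : ℕ} (ha : x ∈ powSet G a) (c : ℕ) : x ∈ powSet G (c * a) := by
  induction c with
  | zero => rw [Nat.zero_mul]; exact mem_powSet_zero G x
  | succ c ih => rw [Nat.succ_mul]; exact mem_powSet_add G ih ha

theorem mem_powSet_of_add {x : G.left} {a b : ℕ} (hab : x ∈ powSet G (a + b)) (hb : x ∈ powSet G b) :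
    x ∈ powSet G a := by
  show pw G a x ∈ SGA3x.neutralSet G
  have e : ptHom G x ^ a = ptHom G x ^ (a + b) * (ptHom G x ^ b)⁻¹ := by rw [pow_add, mul_inv_cancel_right]
  rw [← ptHom_pow, e, Hom.mul_def, Over.comp_left, Scheme.Hom.comp_apply]
  refine mul_mem G ?_ ?_
  · rw [← Scheme.Hom.comp_apply, ← Over.comp_left, lift_fst]; exact (ptHom_pow G x (a + b)).symm ▸ hab
  · rw [← Scheme.Hom.comp_apply, ← Over.comp_left, lift_snd, Hom.inv_def, Over.comp_left, Scheme.Hom.comp_apply]
    exact inv_mem G ((ptHom_pow G x b).symm ▸ hb)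

theorem mem_powSet_gcd {x : G.left} (a b : ℕ) (ha : x ∈ powSet G a) (hb : x ∈ powSet G b) :
    x ∈ powSet G (Nat.gcd a b) := by
  induction a, b using Nat.gcd.induction with
  | H0 n => rwa [Nat.gcd_zero_left]
  | H1 m n _ ih =>
    rw [Nat.gcd_rec]
    exact ih (mem_powSet_of_add G (b := (n / m) * m) (by rw [Nat.mul_comm, Nat.mod_add_div]; exact hb)
      (mem_powSet_mul G ha _)) ha

theorem pw_comp (n : ℕ) : pw G n ≫ G.hom = G.hom := Over.w _

section Noetherian

variable [IsLocallyNoetherian S] [LocallyOfFiniteType G.hom]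

theorem isLocallyConstructible_neutral : Topology.IsLocallyConstructible (SGA3x.neutralSet G) := by
  haveI : LocallyOfFinitePresentation G.hom := Groth.L25.TrivLocus.lfp_of_noetherian G.hom
  haveI : IsLocallyNoetherian G.left := LocallyOfFiniteType.isLocallyNoetherian G.hom
  exact isLocallyConstructible G

theorem cc_powSet (n : ℕ) : Groth.L19.Limit.CC (powSet G n) :=
  (Groth.L19.Limit.cc_of_isLocallyConstructible (isLocallyConstructible_neutral G)).preimage (pw G n)

theorem cc_compl_powSet (n : ℕ) : Groth.L19.Limit.CC (powSet G n)ᶜ :=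
  (Groth.L19.Limit.cc_compl_of_isLocallyConstructible (isLocallyConstructible_neutral G)).preimage (pw G n)

/-- A generisation of a torsion point is a torsion point. -/
theorem exists_pow_of_specializes {x z : G.left} (hzx : z ⤳ x) {n : ℕ} (hn : 0 < n) (hx : x ∈ powSet G n) :
    ∃ m, 0 < m ∧ z ∈ powSet G m := by
  obtain ⟨V, hV, hsV, -⟩ := exists_isAffineOpen_mem_and_subset (X := S) (x := G.hom x) (U := ⊤) trivial
  haveI : IsAffine V.toScheme := hV
  let G' : Over V.toScheme := res G V
  haveI : LocallyOfFiniteType G'.hom := MorphismProperty.pullback_snd _ _ ‹LocallyOfFiniteType G.hom›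
  obtain ⟨U', hU'c, hU'⟩ := Groth.Agent.S5323.result V.toScheme G'
    (fun s => MorphismProperty.pullback_snd _ _ inferInstance)
  let U : G.left.Opens := ⟨resι G V '' (U' : Set G'.left), (resι G V).isOpenEmbedding.isOpenMap _ U'.isOpen⟩
  have hUn : ∀ y ∈ SGA3x.neutralSet G, G.hom y ∈ V → y ∈ U := fun y hy hyV => by
    obtain ⟨y', rfl⟩ := (range_resι G V).ge (show y ∈ G.hom ⁻¹' (V : Set S) from hyV)
    exact ⟨y', hU' (by rw [neutral_res]; exact hy), rfl⟩
  let f : Spec (G.left.residueField z) ⟶ S := G.left.fromSpecResidueField z ≫ G.hom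
  let H : Over (Spec (G.left.residueField z)) := Red.bc f G
  let K : Type u := G.left.residueField z
  haveI : LocallyOfFiniteType H.hom := MorphismProperty.pullback_snd _ _ ‹LocallyOfFiniteType G.hom›
  let σ : 𝟙_ (Over (Spec (G.left.residueField z))) ⟶ H :=
    Over.homMk (pullback.lift (G.left.fromSpecResidueField z) (𝟙 _) (Category.id_comp _).symm) (pullback.lift_snd _ _ _)
  have hσ : ∀ m : ℕ, (pullback.fst G.hom f) ((σ ^ m).left (IsLocalRing.closedPoint K)) = pw G m z := by
    intro m
    have e : σ ^ m = σ ≫ (Over.pullback f).map ((𝟙 G : G ⟶ G) ^ m) := by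
      rw [show (Over.pullback f).map ((𝟙 G : G ⟶ G) ^ m) = (𝟙 H : H ⟶ H) ^ m from
          ((Over.pullback f).homMonoidHom.map_pow (𝟙 G : G ⟶ G) m).trans (congrArg (· ^ m) ((Over.pullback f).map_id G)),
        MonObj.comp_pow, Category.comp_id]
    have h2 : (σ ^ m).left ≫ pullback.fst G.hom f = G.left.fromSpecResidueField z ≫ pw G m := by
      rw [e, Over.comp_left, Category.assoc,
        show ((Over.pullback f).map ((𝟙 G : G ⟶ G) ^ m)).left ≫ pullback.fst G.hom f =
          pullback.fst G.hom f ≫ pw G m from pullback.lift_fst _ _ _, ← Category.assoc]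
      exact congrArg (· ≫ pw G m) (pullback.lift_fst _ _ _)
    exact (congrArg (fun φ : Spec (G.left.residueField z) ⟶ G.left => φ (IsLocalRing.closedPoint K)) h2).trans
      (congrArg (pw G m) (Scheme.fromSpecResidueField_apply (x := z) _))
  haveI : QuasiCompact (pullback.fst G.hom f) := MorphismProperty.pullback_fst _ _ inferInstance
  obtain ⟨d, hd, hd'⟩ := exists_pow_mem_component H (σ ^ n)
    ((pullback.fst G.hom f).isCompact_preimage (U := U) (hU'c.image (resι G V).continuous))
    (fun m => by
      show pullback.fst G.hom f _ ∈ U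
      rw [← pow_mul]
      refine Eq.mpr (congrArg (· ∈ U) (hσ (n * m))) ?_
      refine (hzx.map (pw G (n * m)).continuous).mem_open U.isOpen (hUn _ ?_ ?_)
      · rw [Nat.mul_comm]; exact mem_powSet_mul G hx m
      · rw [← Scheme.Hom.comp_apply, pw_comp]; exact hsV)
  rw [← pow_mul] at hd'
  refine ⟨n * d, Nat.mul_pos hn hd, ?_⟩
  show pw G (n * d) z ∈ SGA3x.neutralSet G
  refine Eq.mp (congrArg (· ∈ SGA3x.neutralSet G) (hσ (n * d))) ?_
  have := Groth.Agent.S5322.result S _ f G
  exact this.le (Set.mem_iUnion.2 ⟨IsLocalRing.closedPoint K, by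
    show (σ ^ (n * d)).left _ ∈ connectedComponentIn (H.hom ⁻¹' {(IsLocalRing.closedPoint K : Spec (G.left.residueField z))}) _
    rw [show H.hom ⁻¹' {(IsLocalRing.closedPoint K : Spec (G.left.residueField z))} = Set.univ from
      Set.eq_univ_of_forall fun _ => Subsingleton.elim (α := PrimeSpectrum K) _ _, connectedComponentIn_univ]
    exact hd'⟩)

end Noetherian

end Groth.L02.NeutralOpen
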