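import Groth.Agent.L02.NeutralOpen.Cons
import Groth.Agent.L19.Limit.CC
import Groth.Agent.L06.Spectral
import Mathlib.AlgebraicGeometry.Morphisms.UniversallyInjective
import Mathlib.RingTheory.Ideal.MinimalPrime.Localization

/-!
# A representable neutral component is open
-/

set_option autoImplicit false
set_option linter.style.haveILetI false
set_option backward.isDefEq.respectTransparency.types false
set_option backward.isDefEq.respectTransparency false
universe u

open CategoryTheory CategoryTheory.Limits MonoidalCategory CartesianMonoidalCategory MonObj AlgebraicGeometry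

namespace Groth.L02.NeutralOpen

variable {S : Scheme.{u}} (G : Over S) [GrpObj G]
  (G0 : Over S) (i : G0 ⟶ G) [Mono i]
  (hrep : ∀ (T : Over S) (g : T ⟶ G), (∃ z : T ⟶ G0, z ≫ i = g) ↔ Set.range g.left.base ⊆ SGA3x.neutralSet G)

include hrep in
theorem range_rep : Set.range i.left = SGA3x.neutralSet G := by
  refine Set.Subset.antisymm ((hrep G0 i).1 ⟨𝟙 _, Category.id_comp _⟩) fun x hx => ?_
  let T : Over S := Over.mk (G.left.fromSpecResidueField x ≫ G.hom)
  let g : T ⟶ G := Over.homMk (G.left.fromSpecResidueField x) rfl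
  obtain ⟨z, hz⟩ := (hrep T g).2 (by
    rintro _ ⟨t, rfl⟩
    show G.left.fromSpecResidueField x t ∈ _
    rw [Scheme.fromSpecResidueField_apply]
    exact hx)
  refine ⟨z.left (IsLocalRing.closedPoint (G.left.residueField x)), ?_⟩
  rw [← Scheme.Hom.comp_apply, ← Over.comp_left, hz]
  exact Scheme.fromSpecResidueField_apply (x := x) _

/-- Ring maps to a product detecting the zero ideal of a local domain which is not a field. -/
theorem injective_pi_quotient {R : Type u} [CommRing R] [IsDomain R] {a : R} (ha : a ≠ 0) (ha' : ¬ IsUnit a) :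
    Function.Injective (RingHom.pi fun f : {f : R // f ≠ 0} => Ideal.Quotient.mk (Ideal.span {f.1})) := by
  rw [injective_iff_map_eq_zero]
  intro r hr
  by_contra hr0
  have h := congrFun hr ⟨r * a, mul_ne_zero hr0 ha⟩
  simp only [RingHom.pi_apply, Pi.zero_apply, Ideal.Quotient.eq_zero_iff_mem, Ideal.mem_span_singleton] at h
  obtain ⟨c, hc⟩ := h
  refine ha' (IsUnit.of_mul_eq_one c ?_)
  apply mul_left_cancel₀ hr0
  rw [← _root_.mul_assoc, ← hc, _root_.mul_one]

variable [LocallyOfFinitePresentation G.hom]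

include hrep in
theorem mem_of_specializes {x z : G.left} (hx : x ∈ SGA3x.neutralSet G) (hzx : z ⤳ x) :
    z ∈ SGA3x.neutralSet G := by
  classical
  by_contra hz
  let A := G.left.presheaf.stalk x
  let π : Spec A ⟶ G.left := G.left.fromSpecStalk x
  let E : Set (Spec A) := π ⁻¹' (SGA3x.neutralSet G)ᶜ
  have hEne : E.Nonempty := by
    obtain ⟨w, hw⟩ : z ∈ Set.range π := by rw [Scheme.range_fromSpecStalk]; exact hzx
    exact ⟨w, show π w ∉ _ from hw ▸ hz⟩
  haveI := Groth.L19.Limit.spectralSpace_of_isAffine (Spec A)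
  have hEc : IsCompact E := Groth.L06.Spectral.isCompact_of_isClosed_cons
    ((Groth.L19.Limit.cc_compl_of_isIndConstructible (isIndConstructible G)).preimage π).isClosed_of_isAffine
  haveI : CompactSpace E := isCompact_iff_compactSpace.1 hEc
  haveI : Nonempty E := hEne.to_subtype
  obtain ⟨⟨q, hqE⟩, -, hqc⟩ := (isClosed_univ (X := E)).exists_closed_singleton Set.univ_nonempty
  have hmax : ∀ q' : Spec A, q ⤳ q' → q' ∈ E → q' = q := fun q' hs hq' => by
    have h : (⟨q, hqE⟩ : E) ⤳ ⟨q', hq'⟩ := (subtype_specializes_iff _ _).2 hs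
    exact congrArg Subtype.val (Set.mem_singleton_iff.1 (hqc.stableUnderSpecialization h (Set.mem_singleton _)))
  let 𝔮 : Ideal A := PrimeSpectrum.asIdeal q
  haveI : 𝔮.IsPrime := q.isPrime
  let R := A ⧸ 𝔮
  let ρ : A →+* R := Ideal.Quotient.mk 𝔮
  have hclosed : π (IsLocalRing.closedPoint A) = x := Scheme.fromSpecStalk_closedPoint
  obtain ⟨a, ham, haq⟩ : ∃ a, a ∈ IsLocalRing.maximalIdeal A ∧ a ∉ 𝔮 := by
    by_contra! h
    have hqm : q = IsLocalRing.closedPoint A :=
      PrimeSpectrum.ext (le_antisymm (IsLocalRing.le_maximalIdeal q.isPrime.ne_top) h)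
    refine hqE ?_
    show π q ∈ _
    rw [hqm, hclosed]
    exact hx
  have ha0 : ρ a ≠ 0 := fun h => haq (Ideal.Quotient.eq_zero_iff_mem.1 h)
  have hau : ¬ IsUnit (ρ a) := fun h => by
    obtain ⟨b, hb⟩ := h.exists_right_inv
    obtain ⟨b, rfl⟩ := Ideal.Quotient.mk_surjective b
    have : 1 - a * b ∈ 𝔮 := Ideal.Quotient.eq.1 (by rw [map_mul]; exact hb.symm)
    have h1 : (1 : A) ∈ IsLocalRing.maximalIdeal A := by
      have := add_mem (IsLocalRing.le_maximalIdeal q.isPrime.ne_top this) ((IsLocalRing.maximalIdeal A).mul_mem_right b ham)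
      rwa [sub_add_cancel] at this
    exact (IsLocalRing.maximalIdeal.isMaximal A).ne_top ((Ideal.eq_top_iff_one _).2 h1)
  let J := {f : R // f ≠ 0}
  let ρf : ∀ f : J, A →+* R ⧸ Ideal.span {f.1} := fun f => (Ideal.Quotient.mk _).comp ρ
  have hρf : ∀ f, Function.Surjective (ρf f) := fun f =>
    Ideal.Quotient.mk_surjective.comp Ideal.Quotient.mk_surjective
  let T : J → Over S := fun f => Over.mk ((Spec.map (CommRingCat.ofHom (ρf f)) ≫ π) ≫ G.hom)
  let g : ∀ f, T f ⟶ G := fun f => Over.homMk (Spec.map (CommRingCat.ofHom (ρf f)) ≫ π) rfl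
  have hg : ∀ f, Set.range (g f).left.base ⊆ SGA3x.neutralSet G := by
    rintro f _ ⟨t, rfl⟩
    by_contra hn
    let q' : Spec A := Spec.map (CommRingCat.ofHom (ρf f)) t
    have hsp : q ⤳ q' := (PrimeSpectrum.le_iff_specializes q q').1 fun b hb => by
      show ρf f b ∈ t.asIdeal
      have h0 : ρf f b = 0 := (congrArg _ (Ideal.Quotient.eq_zero_iff_mem.2 hb : ρ b = 0)).trans (map_zero (Ideal.Quotient.mk _))
      rw [h0]
      exact t.asIdeal.zero_mem
    have hq' := hmax q' hsp hn
    obtain ⟨b, hb⟩ := Ideal.Quotient.mk_surjective f.1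
    have hbq' : b ∈ q'.asIdeal := by
      show ρf f b ∈ t.asIdeal
      have h0 : ρf f b = 0 := (congrArg (Ideal.Quotient.mk (Ideal.span {f.1})) hb).trans
        (Ideal.Quotient.eq_zero_iff_mem.2 (Ideal.mem_span_singleton_self f.1))
      rw [h0]
      exact t.asIdeal.zero_mem
    rw [hq'] at hbq'
    exact f.2 (hb ▸ Ideal.Quotient.eq_zero_iff_mem.2 hbq')
  choose z hz using fun f => (hrep (T f) (g f)).2 (hg f)
  obtain ⟨g0, hg0⟩ := (range_rep G G0 i hrep).ge hx
  obtain ⟨O, hO, hxO, -⟩ := exists_isAffineOpen_mem_and_subset (X := G.left) (x := x) (U := ⊤) trivial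
  obtain ⟨U, hU, hgU, hUO⟩ := exists_isAffineOpen_mem_and_subset (X := G0.left) (x := g0) (U := i.left ⁻¹ᵁ O)
    (show i.left g0 ∈ O from hg0 ▸ hxO)
  have hinj : Function.Injective i.left := i.left.injective
  have hzU : ∀ f, Set.range (z f).left ⊆ Set.range hU.fromSpec := by
    rintro f _ ⟨t, rfl⟩
    rw [hU.range_fromSpec]
    obtain ⟨M, hM, htM⟩ := Ideal.exists_le_maximal _ (PrimeSpectrum.isPrime t).ne_top
    let c : PrimeSpectrum (R ⧸ Ideal.span {f.1}) := ⟨M, hM.isPrime⟩
    have htc : t ⤳ (c : (T f).left) := (PrimeSpectrum.le_iff_specializes t c).1 htM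
    have hc : Spec.map (CommRingCat.ofHom (ρf f)) c = IsLocalRing.closedPoint A := PrimeSpectrum.ext
      (IsLocalRing.eq_maximalIdeal (Ideal.comap_isMaximal_of_surjective (ρf f) (hρf f) (K := M)))
    have hzc : (z f).left c = g0 := hinj (by
      rw [← Scheme.Hom.comp_apply, ← Over.comp_left, hz]
      show (Spec.map (CommRingCat.ofHom (ρf f)) ≫ π) c = _
      rw [Scheme.Hom.comp_apply]
      exact ((congrArg π hc).trans hclosed).trans hg0.symm)
    exact (htc.map (z f).left.continuous).mem_open U.isOpen (hzc ▸ hgU)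
  let ψf : ∀ f : J, Γ(G0.left, U) ⟶ CommRingCat.of (R ⧸ Ideal.span {f.1}) := fun f =>
    Spec.preimage (IsOpenImmersion.lift hU.fromSpec (z f).left (hzU f) :
      Spec (CommRingCat.of (R ⧸ Ideal.span {f.1})) ⟶ Spec Γ(G0.left, U))
  have hψf : ∀ f, Spec.map (ψf f) ≫ hU.fromSpec = (z f).left := fun f => by
    rw [Spec.map_preimage]; exact IsOpenImmersion.lift_fac _ _ _
  let Φ : R →+* (∀ f : J, R ⧸ Ideal.span {f.1}) := RingHom.pi fun f => Ideal.Quotient.mk _
  let ψ : Γ(G0.left, U) ⟶ CommRingCat.of (∀ f : J, R ⧸ Ideal.span {f.1}) :=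
    CommRingCat.ofHom (RingHom.pi fun f => (ψf f).hom)
  have hπ : π = Spec.map (G.left.presheaf.germ O x hxO) ≫ hO.fromSpec :=
    (hO.fromSpecStalk_eq_fromSpecStalk hxO).symm
  have hi : hU.fromSpec ≫ i.left = Spec.map (i.left.appLE O U hUO) ≫ hO.fromSpec :=
    (hO.SpecMap_appLE_fromSpec i.left hU hUO).symm
  have key : i.left.appLE O U hUO ≫ ψ =
      G.left.presheaf.germ O x hxO ≫ CommRingCat.ofHom (Φ.comp ρ) := by
    ext s f
    have e : i.left.appLE O U hUO ≫ ψf f = G.left.presheaf.germ O x hxO ≫ CommRingCat.ofHom (ρf f) := by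
      apply Spec.map_injective
      rw [← cancel_mono hO.fromSpec, Spec.map_comp, Spec.map_comp, Category.assoc, Category.assoc, ← hi, ← hπ,
        ← Category.assoc, hψf, ← Over.comp_left, hz]
      rfl
    exact congr(($e).hom s)
  obtain ⟨Q, hQ, hQq⟩ := Ideal.exists_comap_eq_of_mem_minimalPrimes_of_injective
    (injective_pi_quotient ha0 hau) (⊥ : Ideal R) (by rw [IsDomain.minimalPrimes_eq_singleton_bot]; rfl)
  let Qp : Spec (CommRingCat.of (∀ f : J, R ⧸ Ideal.span {f.1})) := (⟨Q, hQ⟩ : PrimeSpectrum _)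
  have hq : Spec.map (CommRingCat.ofHom (Φ.comp ρ)) Qp = q := by
    apply PrimeSpectrum.ext
    show Ideal.comap (Φ.comp ρ) Q = 𝔮
    rw [← Ideal.comap_comap, show Ideal.comap Φ Q = ⊥ from hQq]
    exact Ideal.mk_ker
  refine hqE ?_
  show π q ∈ SGA3x.neutralSet G
  have e : Spec.map (CommRingCat.ofHom (Φ.comp ρ)) ≫ π = (Spec.map ψ ≫ hU.fromSpec) ≫ i.left := by
    rw [hπ, ← Category.assoc, ← Spec.map_comp, ← key, Spec.map_comp, Category.assoc, ← hi, ← Category.assoc]
  rw [← range_rep G G0 i hrep]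
  refine ⟨(Spec.map ψ ≫ hU.fromSpec) Qp, ?_⟩
  rw [← hq]
  exact (congrArg (fun φ : Spec (CommRingCat.of (∀ f : J, R ⧸ Ideal.span {f.1})) ⟶ G.left => φ Qp) e).symm

include hrep in
theorem isOpen_of_rep : IsOpen (SGA3x.neutralSet G) := by
  refine isOpen_iff_forall_mem_open.2 fun x hx => ?_
  obtain ⟨O, hO, hxO, -⟩ := exists_isAffineOpen_mem_and_subset (X := G.left) (x := x) (U := ⊤) trivial
  haveI := Groth.L19.Limit.spectralSpace_opens hO
  have hcl : IsClosed (O.ι ⁻¹' (SGA3x.neutralSet G)ᶜ) :=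
    Groth.L06.Spectral.isClosed_of_stableUnderSpecialization
      (Groth.L19.Limit.cc_compl_of_isIndConstructible (isIndConstructible G) O hO)
      fun a b hab ha hb => ha (mem_of_specializes G G0 i hrep hb (hab.map O.ι.continuous))
  have ho : IsOpen (O.ι '' (O.ι ⁻¹' SGA3x.neutralSet G)) := by
    refine O.ι.isOpenEmbedding.isOpenMap _ ?_
    have := hcl.isOpen_compl
    rwa [Set.preimage_compl, compl_compl] at this
  exact ⟨_, Set.image_preimage_subset _ _, ho, ⟨⟨x, hxO⟩, hx, rfl⟩⟩

include hrep in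
theorem rep_isOpenImmersion : IsOpenImmersion i.left ∧ QuasiCompact G0.hom := by
  let V : G.left.Opens := ⟨_, isOpen_of_rep G G0 i hrep⟩
  have hr : Set.range i.left ⊆ Set.range V.ι := by
    rw [Scheme.Opens.range_ι]; exact (range_rep G G0 i hrep).le
  let l : G0.left ⟶ V.toScheme := IsOpenImmersion.lift V.ι i.left hr
  have hl : l ≫ V.ι = i.left := IsOpenImmersion.lift_fac _ _ _
  obtain ⟨z, hz⟩ := (hrep (Over.mk (V.ι ≫ G.hom)) (Over.homMk V.ι rfl)).2 (by
    rintro _ ⟨t, rfl⟩; exact t.2)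
  have hz' : z.left ≫ i.left = V.ι := congr(($hz).left)
  haveI : IsIso l := ⟨z.left, by
    rw [← cancel_mono i.left, Category.assoc, hz', hl, Category.id_comp], by
    rw [← cancel_mono V.ι, Category.assoc, hl, Category.id_comp]; exact hz'⟩
  refine ⟨hl ▸ inferInstance, ?_⟩
  have key : ∀ s : S, ∃ V' : S.Opens, s ∈ V' ∧ IsAffineOpen V' ∧ IsOpen (SGA3x.neutralSet (res G V')) ∧
      IsCompact (SGA3x.neutralSet (res G V')) := by
    intro s
    obtain ⟨V', hsV, hVa, W, hW, -, h1⟩ := exists_chart G ⊤ s trivial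
    haveI : IsAffine V'.toScheme := hVa
    haveI : IsAffine W.toScheme := hW
    haveI : LocallyOfFinitePresentation (res G V').hom :=
      MorphismProperty.pullback_snd _ _ ‹LocallyOfFinitePresentation G.hom›
    haveI : LocallyOfFinitePresentation (str (res G V') W) := inferInstance
    have ho : IsOpen (SGA3x.neutralSet (res G V')) := by
      rw [neutral_res]; exact V.isOpen.preimage (resι G V').continuous
    let U : (res G V').left.Opens := ⟨_, W.isOpen.inter ho⟩
    haveI : CompactSpace U.toScheme := isCompact_iff_compactSpace.1 (isCompact_inter (res G V') W hW h1)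
    haveI : QuasiCompact (U.ι ≫ (res G V').hom) := (HasAffineProperty.iff_of_isAffine (P := @QuasiCompact)).2 inferInstance
    exact ⟨V', hsV, hVa, ho, isCompact_neutral (res G V') U (fun y hy => hy.2) fun t => ⟨h1 t, one_mem (res G V') t⟩⟩
  haveI := (glue G key).2 V rfl
  rw [← Over.w i, ← hl, Category.assoc]
  infer_instance

end Groth.L02.NeutralOpen
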