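import Groth.Agent.L02.NeutralOpen.Main
import Groth.Agent.L07.SectionCompDimConstFP
import Groth.Agent.L25.Actions

/-!
# Universal openness along the neutral components and constancy of the dimension
-/

set_option autoImplicit false
set_option linter.style.haveILetI false
set_option backward.isDefEq.respectTransparency.types false
set_option backward.isDefEq.respectTransparency false
universe u

open CategoryTheory CategoryTheory.Limits MonoidalCategory CartesianMonoidalCategory MonObj AlgebraicGeometry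
open Groth.L25
open Groth.Lead.Neutral (fib)

namespace Groth.L02.NeutralOpen

variable {S : Scheme.{u}} (G : Over S) [GrpObj G]

/-- Universal openness at two points passes to their products. -/
theorem isUnivOpenAt_mul {z : (G ⊗ G).left} (h1 : EGA43.IsUnivOpenAt G.hom ((fst G G).left z))
    (h2 : EGA43.IsUnivOpenAt G.hom ((snd G G).left z)) : EGA43.IsUnivOpenAt G.hom (μ[G].left z) := by
  have hb : EGA43.IsUnivOpenAt (fst G G).left z :=
    Groth.L07.UnivOpenAt.baseChange (Groth.L25.Actions.isPullback_snd G G).flip h2 z rfl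
  have h := Groth.L07.UnivOpenAt.comp hb h1
  have e : (fst G G).left ≫ G.hom = μ[G].left ≫ G.hom := (Over.w (fst G G)).trans (Over.w μ[G]).symm
  rw [e] at h
  exact Groth.L07.UnivOpenAt.right_of_comp h

theorem isUnivOpenAt_res (V : S.Opens) (x : (res G V).left) :
    EGA43.IsUnivOpenAt (res G V).hom x ↔ EGA43.IsUnivOpenAt G.hom (resι G V x) := by
  refine ⟨fun h => ?_, fun h => Groth.L07.UnivOpenAt.baseChange (IsPullback.of_hasPullback G.hom V.ι) h x rfl⟩
  have h' := Groth.L07.UnivOpenAt.comp h (Groth.L07.SectionComp.isUnivOpenAt_of_universallyOpen V.ι _)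
  rw [show (res G V).hom ≫ V.ι = resι G V ≫ G.hom from pullback.condition.symm] at h'
  exact Groth.L07.UnivOpenAt.right_of_comp h'

section Chart

variable [IsAffine S] [LocallyOfFinitePresentation G.hom] (W : G.left.Opens) (hW : IsAffineOpen W)
  (h1 : ∀ s : S, (η[G] : 𝟙_ (Over S) ⟶ G).left s ∈ W) (t : S)

include hW h1 in
theorem univOpen_of_dim_const
    (h : ∃ V ∈ nhds t, ∀ z ∈ V, topologicalKrullDim ↥(G.hom.base ⁻¹' {z}) = topologicalKrullDim ↥(G.hom.base ⁻¹' {t})) :
    ∀ x ∈ (W : Set G.left) ∩ SGA3x.neutralSet G, G.hom x = t → EGA43.IsUnivOpenAt G.hom x := by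
  intro x ⟨hxW, hxn⟩ hxt
  haveI : IsAffine W.toScheme := hW
  haveI : LocallyOfFinitePresentation (str G W) := inferInstance
  haveI : QuasiCompact (str G W) := (HasAffineProperty.iff_of_isAffine (P := @QuasiCompact)).2 inferInstance
  haveI : QuasiSeparated (str G W) := (HasAffineProperty.iff_of_isAffine (P := @QuasiSeparated)).2 inferInstance
  have hx : (⟨x, hxW⟩ : W.toScheme) ∈ MoreMor.sectionComponents (str G W) (sec G W h1) := by
    rw [sectionComponents_chart]; exact hxn
  obtain ⟨V, hV, hc⟩ := h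
  have hxt' : (str G W).base (⟨x, hxW⟩ : W.toScheme) = t := hxt
  obtain ⟨⟨O, hO, hopen⟩, -⟩ := Groth.Agent.S4955.result (str G W) (sec G W h1) (sec_str G W h1)
    (hirr_chart G W h1) _ hx ⟨V, by rw [hxt']; exact hV, fun z hz => by
      rw [dim_chart, dim_chart, hxt']; exact hc z hz⟩
  exact Groth.L07.UnivOpenAt.right_of_comp (hopen _ hx hO)

include hW h1 in
theorem dim_const_of_univOpen
    (h : ∀ x ∈ (W : Set G.left) ∩ SGA3x.neutralSet G, G.hom x = t → EGA43.IsUnivOpenAt G.hom x) :
    ∃ V ∈ nhds t, ∀ z ∈ V, topologicalKrullDim ↥(G.hom.base ⁻¹' {z}) = topologicalKrullDim ↥(G.hom.base ⁻¹' {t}) := by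
  haveI : IsAffine W.toScheme := hW
  haveI : LocallyOfFinitePresentation (str G W) := inferInstance
  haveI : QuasiCompact (str G W) := (HasAffineProperty.iff_of_isAffine (P := @QuasiCompact)).2 inferInstance
  haveI : QuasiSeparated (str G W) := (HasAffineProperty.iff_of_isAffine (P := @QuasiSeparated)).2 inferInstance
  have hβ : ∀ y' : S, t ∈ closure {y'} → closure {y'} ∈ irreducibleComponents (S : Type u) →
      topologicalKrullDim ↥((str G W).fiber y') = topologicalKrullDim ↥(connectedComponentIn ((str G W).base ⁻¹' {y'}) ((sec G W h1).base y')) := by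
    intro y' _ _
    refine le_antisymm ?_ ?_
    · rw [dim_chart]
      refine le_trans ?_ (Groth.Lead.GrpFibreDim.dim_eq_fiber G y').ge
      exact (fibIncl G W y').isEmbedding.isInducing.topologicalKrullDim_le
    · refine le_trans ?_ (IsHomeomorph.topologicalKrullDim_eq _ ((str G W).fiberHomeo y').isHomeomorph).ge
      exact (Topology.IsEmbedding.inclusion (connectedComponentIn_subset _ _)).isInducing.topologicalKrullDim_le
  obtain ⟨V, hV, hc⟩ := Groth.L07.SectionComp.dim_const_nhds_fp (str G W) (sec G W h1) (sec_str G W h1)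
    (hirr_chart G W h1) t (fun ξ hξ _ => by
      have hξt : (str G W).base ξ = t := connectedComponentIn_subset ((str G W).base ⁻¹' {t}) _ hξ
      have hn : W.ι ξ ∈ SGA3x.neutralSet G := by
        rw [comp_chart] at hξ
        rw [comp_eq, ← Groth.Lead.Neutral.neutralSet_inter] at hξ
        exact hξ.1
      exact Groth.L07.UnivOpenAt.comp (Groth.L07.SectionComp.isUnivOpenAt_of_universallyOpen W.ι ξ)
        (h _ ⟨ξ.2, hn⟩ hξt))
    (Or.inr hβ)
  exact ⟨V, hV, fun z hz => by rw [← dim_chart G W h1 z, ← dim_chart G W h1 t]; exact hc z hz⟩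

end Chart

variable [LocallyOfFinitePresentation G.hom] (s : S)

theorem dim_const_of_univOpenAt (O : G.left.Opens) (hO : (η[G] : 𝟙_ (Over S) ⟶ G).left s ∈ O)
    (h : ∀ x ∈ SGA3x.neutralSet G ∩ G.hom ⁻¹' {s}, x ∈ O → EGA43.IsUnivOpenAt G.hom x) :
    ∃ U : Set S, U ∈ nhds s ∧ ∀ t ∈ U, topologicalKrullDim ↥(G.hom.base ⁻¹' {t}) = topologicalKrullDim ↥(G.hom.base ⁻¹' {s}) := by
  obtain ⟨V, hsV, hVa, W, hW, hWO, h1⟩ := exists_chart G O s hO
  haveI : IsAffine V.toScheme := hVa
  haveI : LocallyOfFinitePresentation (res G V).hom :=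
    MorphismProperty.pullback_snd _ _ ‹LocallyOfFinitePresentation G.hom›
  obtain ⟨V', hV', hc⟩ := dim_const_of_univOpen (res G V) W hW h1 ⟨s, hsV⟩ fun x hx hxt => by
    refine (isUnivOpenAt_res G V x).2 (h _ ⟨?_, ?_⟩ (hWO hx.1))
    · have := hx.2; rw [neutral_res] at this; exact this
    · show G.hom (resι G V x) = s
      rw [← Scheme.Hom.comp_apply, show resι G V ≫ G.hom = (res G V).hom ≫ V.ι from pullback.condition,
        Scheme.Hom.comp_apply, hxt]
      rfl
  refine ⟨V.ι '' V', (V.ι.isOpenEmbedding.isOpenMap.image_mem_nhds hV' :), ?_⟩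
  rintro _ ⟨t, ht, rfl⟩
  rw [← dim_res G V t, hc t ht, dim_res]
  rfl

theorem univOpenAt_of_dim_const
    (h : ∃ U : Set S, U ∈ nhds s ∧ ∀ t ∈ U, topologicalKrullDim ↥(G.hom.base ⁻¹' {t}) = topologicalKrullDim ↥(G.hom.base ⁻¹' {s}))
    {x : G.left} (hx : x ∈ SGA3x.neutralSet G) (hxs : G.hom x = s) : EGA43.IsUnivOpenAt G.hom x := by
  obtain ⟨V, hsV, hVa, W, hW, -, h1⟩ := exists_chart G ⊤ s trivial
  haveI : IsAffine V.toScheme := hVa
  haveI : LocallyOfFinitePresentation (res G V).hom :=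
    MorphismProperty.pullback_snd _ _ ‹LocallyOfFinitePresentation G.hom›
  obtain ⟨U, hU, hc⟩ := h
  let O : Set G.left := resι G V '' (W : Set (res G V).left)
  have hO : IsOpen O := (resι G V).isOpenEmbedding.isOpenMap _ W.isOpen
  have hopen : ∀ y ∈ O, y ∈ SGA3x.neutralSet G → G.hom y = s → EGA43.IsUnivOpenAt G.hom y := by
    rintro _ ⟨w, hw, rfl⟩ hn hys
    refine (isUnivOpenAt_res G V w).1 (univOpen_of_dim_const (res G V) W hW h1 ⟨s, hsV⟩
      ⟨V.ι ⁻¹' U, V.ι.continuous.continuousAt.preimage_mem_nhds hU, fun z hz => by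
        rw [dim_res, dim_res]; exact hc _ hz⟩ w ⟨hw, by rw [neutral_res]; exact hn⟩ ?_)
    apply V.ι.isOpenEmbedding.injective
    rw [← Scheme.Hom.comp_apply, ← show resι G V ≫ G.hom = (res G V).hom ≫ V.ι from pullback.condition,
      Scheme.Hom.comp_apply, hys]
    rfl
  haveI : LocallyOfFiniteType (fib G s).hom := MorphismProperty.pullback_snd _ _ inferInstance
  haveI : IsLocallyNoetherian (fib G s).left := LocallyOfFiniteType.isLocallyNoetherian (fib G s).hom
  obtain ⟨x', hx', hxe⟩ := (Groth.Lead.Neutral.neutralSet_inter G s).le ⟨hx, hxs⟩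
  have h1O : G.hom.fiberι s (Component.one (fib G s)) ∈ O := by
    rw [show G.hom.fiberι s (Component.one (fib G s)) = (η[G] : 𝟙_ (Over S) ⟶ G).left s from
      Groth.Lead.Neutral.fiberι_one G s]
    exact ⟨_, h1 ⟨s, hsV⟩, resι_one G V ⟨s, hsV⟩⟩
  obtain ⟨w, hw, hw1, hw2⟩ := exists_mul_eq_component (fib G s)
    (W := G.hom.fiberι s ⁻¹' O ∩ connectedComponent (Component.one (fib G s)))
    ((hO.preimage (G.hom.fiberι s).continuous).inter
      (Component.isOpen_of_mem (fib G s) (Groth.Lead.Neutral.component_mem (fib G s))))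
    ⟨h1O, mem_connectedComponent⟩ Set.inter_subset_right hx'
  have key : ∀ a : (fib G s).left, a ∈ G.hom.fiberι s ⁻¹' O ∩ connectedComponent (Component.one (fib G s)) →
      EGA43.IsUnivOpenAt G.hom (G.hom.fiberι s a) := fun a ha =>
    hopen _ ha.1 ((fib_mem_iff G s a).2 ha.2) ((G.hom.range_fiberι s).le ⟨a, rfl⟩)
  have hm := isUnivOpenAt_mul G (z := nu G s w) (by rw [nu_fst]; exact key _ hw1) (by rw [nu_snd]; exact key _ hw2)
  rwa [nu_mul, hw, hxe] at hm

end Groth.L02.NeutralOpen
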