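import Groth.Agent.L02.NeutralOpen.Torsion
import Groth.Agent.L02.NeutralOpen.UnivOpen
import Groth.Agent.Lead.PowEtale
import Groth.Agent.L07.UnivOpenAt
import Groth.Agent.L07.SectionComp

/-!
# Prime-to-p and p-primary torsion sets
-/

set_option autoImplicit false
set_option linter.style.haveILetI false
set_option backward.isDefEq.respectTransparency.types false
set_option backward.isDefEq.respectTransparency false
universe u

open scoped Topology
open CategoryTheory CategoryTheory.Limits MonoidalCategory CartesianMonoidalCategory MonObj AlgebraicGeometry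
open Groth.L25
open Groth.Lead.Neutral (fib)

namespace Groth.L02.NeutralOpen

variable {S : Scheme.{u}} (G : Over S) [GrpObj G]

theorem pw_pw (a b : ℕ) (x : G.left) : pw G b (pw G a x) = pw G (a * b) x := by
  have e : ((𝟙 G : G ⟶ G) ^ a) ≫ ((𝟙 G : G ⟶ G) ^ b) = (𝟙 G : G ⟶ G) ^ (a * b) := by
    rw [MonObj.comp_pow, Category.comp_id, ← pow_mul]
  show (((𝟙 G : G ⟶ G) ^ a).left ≫ ((𝟙 G : G ⟶ G) ^ b).left) x = _
  rw [← Over.comp_left, e]
  rfl

theorem pw_one : pw G 1 = 𝟙 G.left := by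
  rw [pw, pow_one]
  rfl

theorem isClosed_primeToSet [IsLocallyNoetherian S] [LocallyOfFiniteType G.hom]
    (h0 : IsClosed (SGA3x.neutralSet G)) (q : ℕ) :
    IsClosed {x : G.left | ∃ n : ℕ, 0 < n ∧ Nat.Coprime n q ∧ x ∈ powSet G n} := by
  refine isClosed_of_affine G fun O hO => ?_
  obtain ⟨N, hN, hb⟩ := exists_bound G hO
  refine ⟨⋃ d ∈ N.divisors.filter (fun d => Nat.Coprime d q), powSet G d,
    (Finset.finite_toSet _).isClosed_biUnion fun d _ => h0.preimage (pw G d).continuous, Set.ext fun x => ⟨?_, ?_⟩⟩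
  · rintro ⟨⟨n, hn, hnq, hm⟩, hxO⟩
    exact ⟨Set.mem_biUnion (Finset.mem_filter.2
      ⟨Nat.mem_divisors.2 ⟨Nat.gcd_dvd_right n N, hN.ne'⟩, hnq.coprime_dvd_left (Nat.gcd_dvd_left n N)⟩)
      (mem_powSet_gcd G n N hm (hb x hxO ⟨n, hn, hm⟩)), hxO⟩
  · rintro ⟨hx, hxO⟩
    obtain ⟨d, hd, hxd⟩ := Set.mem_iUnion₂.1 hx
    obtain ⟨h1, h2⟩ := Finset.mem_filter.1 hd
    exact ⟨⟨d, Nat.pos_of_mem_divisors h1, h2, hxd⟩, hxO⟩

/-- Multiplication by an integer invertible in the field is surjective on the neutral component. -/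
theorem component_subset_pow_image {k : Type u} [Field k] (H : Over (Spec (CommRingCat.of k))) [GrpObj H]
    [IsCommMonObj H] [LocallyOfFiniteType H.hom] (n : ℕ) (hn : (n : k) ≠ 0) :
    connectedComponent (Component.one H) ⊆ ((𝟙 H : H ⟶ H) ^ n).left '' connectedComponent (Component.one H) := by
  haveI : IsLocallyNoetherian H.left := LocallyOfFiniteType.isLocallyNoetherian H.hom
  set u : H ⟶ H := (𝟙 H : H ⟶ H) ^ n with hu
  let C := connectedComponent (Component.one H)
  have hC := Groth.Lead.Neutral.component_isSubgroupSet H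
  obtain ⟨U, h1U, hU⟩ := Groth.Lead.PowEtale.etale_nhd H n hn
  haveI := hU
  have h1 : u.left (Component.one H) = Component.one H := by
    have e : η[H] ≫ u = η[H] := by
      rw [hu, MonObj.comp_pow, Category.comp_id, MonObj.one_eq_one, one_pow]
    exact congr(($e).left (IsLocalRing.closedPoint k))
  let W : Set H.left := u.left '' ((U : Set H.left) ∩ C)
  have hW : IsOpen W := by
    have e : W = (U.ι ≫ u.left) '' (U.ι ⁻¹' C) := by
      show u.left '' _ = _
      rw [Scheme.Hom.comp_base, TopCat.coe_comp, Set.image_comp, Set.image_preimage_eq_inter_range,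
        Scheme.Opens.range_ι, Set.inter_comm]
    rw [e]
    exact (U.ι ≫ u.left).isOpenMap _ ((Component.isOpen_of_mem H (Groth.Lead.Neutral.component_mem H)).preimage
      U.ι.continuous)
  have huC : u.left '' C ⊆ C := by
    refine (u.left.continuous.image_connectedComponent_subset _).trans ?_
    rw [h1]
  intro x hx
  obtain ⟨w, hw, hw1, hw2⟩ := exists_mul_eq_component H hW
    ⟨_, ⟨h1U, mem_connectedComponent⟩, h1⟩ ((Set.image_mono Set.inter_subset_right).trans huC) hx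
  obtain ⟨a, ⟨-, ha⟩, hae⟩ := hw1
  obtain ⟨b, ⟨-, hb⟩, hbe⟩ := hw2
  have hR : Set.range (u ⊗ₘ u).left = (fst H H).left ⁻¹' Set.range u.left ∩ (snd H H).left ⁻¹' Set.range u.left :=
    Scheme.Pullback.range_map (f := H.hom) (g := H.hom) (f' := H.hom) (g' := H.hom)
      (i₁ := u.left) (i₂ := u.left) (i₃ := 𝟙 _) (by rw [Category.comp_id]; exact (Over.w _).symm)
      (by rw [Category.comp_id]; exact (Over.w _).symm)
  let I := Scheme.IdealSheafData.vanishingIdeal (X := H.left) ⟨C, isClosed_connectedComponent⟩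
  have hI : Set.range I.subschemeι = C := by
    rw [Scheme.IdealSheafData.range_subschemeι, Scheme.IdealSheafData.coe_support_vanishingIdeal]; rfl
  let K : Over (Spec (CommRingCat.of k)) := Over.mk (I.subschemeι ≫ H.hom)
  let iK : K ⟶ H := Over.homMk I.subschemeι rfl
  have hR' : Set.range ((iK ≫ u) ⊗ₘ (iK ≫ u)).left =
      (fst H H).left ⁻¹' Set.range (iK ≫ u).left ∩ (snd H H).left ⁻¹' Set.range (iK ≫ u).left :=
    Scheme.Pullback.range_map (f := K.hom) (g := K.hom) (f' := H.hom) (g' := H.hom)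
      (i₁ := (iK ≫ u).left) (i₂ := (iK ≫ u).left) (i₃ := 𝟙 _) (by rw [Category.comp_id]; exact (Over.w _).symm)
      (by rw [Category.comp_id]; exact (Over.w _).symm)
  have hc : Set.range (iK ≫ u).left = u.left '' C := by
    rw [Over.comp_left, Scheme.Hom.comp_base, TopCat.coe_comp, Set.range_comp]
    exact congrArg _ hI
  obtain ⟨v, rfl⟩ : w ∈ Set.range ((iK ≫ u) ⊗ₘ (iK ≫ u)).left := by
    rw [hR', hc]; exact ⟨⟨a, ha, hae⟩, ⟨b, hb, hbe⟩⟩
  have key : ((iK ≫ u) ⊗ₘ (iK ≫ u)) ≫ μ[H] = ((fst K K ≫ iK) * (snd K K ≫ iK)) ≫ u := by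
    have e3 : ((iK ≫ u) ⊗ₘ (iK ≫ u)) = lift (fst K K ≫ (iK ≫ u)) (snd K K ≫ (iK ≫ u)) := by
      apply CartesianMonoidalCategory.hom_ext <;> simp
    rw [e3, ← Hom.mul_def]
    simp only [hu, MonObj.comp_pow, Category.comp_id]
    rw [mul_pow]
  refine ⟨((fst K K ≫ iK) * (snd K K ≫ iK)).left v, ?_, ?_⟩
  · rw [Hom.mul_def, Over.comp_left, Scheme.Hom.comp_apply]
    refine hC.mul_mem _ ?_ ?_
    · rw [← Scheme.Hom.comp_apply, ← Over.comp_left, lift_fst, Over.comp_left, Scheme.Hom.comp_apply]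
      exact hI.le ⟨_, rfl⟩
    · rw [← Scheme.Hom.comp_apply, ← Over.comp_left, lift_snd, Over.comp_left, Scheme.Hom.comp_apply]
      exact hI.le ⟨_, rfl⟩
  · rw [← hw, ← Scheme.Hom.comp_apply, ← Scheme.Hom.comp_apply, ← Over.comp_left, ← Over.comp_left, key]

theorem exists_pw_eq [IsCommMonObj G] [LocallyOfFiniteType G.hom] {y : G.left} (hy : y ∈ SGA3x.neutralSet G)
    (n : ℕ) (hn : (n : S.residueField (G.hom y)) ≠ 0) : ∃ w ∈ SGA3x.neutralSet G, G.hom w = G.hom y ∧ pw G n w = y := by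
  let s := G.hom y
  let F := Over.pullback (S.fromSpecResidueField s)
  haveI : LocallyOfFiniteType (fib G s).hom := MorphismProperty.pullback_snd _ _ inferInstance
  obtain ⟨y', hy', hye⟩ := (Groth.Lead.Neutral.mem_neutralSet_iff G y).1 hy
  obtain ⟨w', hw', hwe⟩ := component_subset_pow_image (fib G s) n hn hy'
  refine ⟨G.hom.fiberι s w', (fib_mem_iff G s w').2 hw', (G.hom.range_fiberι s).le ⟨w', rfl⟩, ?_⟩
  have e : ((𝟙 (fib G s) : fib G s ⟶ fib G s) ^ n) = F.map ((𝟙 G : G ⟶ G) ^ n) :=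
    ((F.homMonoidHom.map_pow (𝟙 G : G ⟶ G) n).trans (congrArg (· ^ n) (F.map_id G))).symm
  have e2 : (F.map ((𝟙 G : G ⟶ G) ^ n)).left ≫ G.hom.fiberι s = G.hom.fiberι s ≫ pw G n := pullback.lift_fst _ _ _
  exact ((Scheme.Hom.comp_apply _ _ w').symm.trans (congr(($e2) w').symm.trans (Scheme.Hom.comp_apply _ _ w'))).trans
    ((congrArg (G.hom.fiberι s) ((congr(($e).left w')).symm.trans hwe)).trans hye)

theorem dvd_pow_self_of_dvd_pow (M : ℕ) : ∀ g : ℕ, 0 < g → ∀ j : ℕ, g ∣ M ^ j → g ∣ M ^ g := by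
  intro g
  induction g using Nat.strong_induction_on with
  | _ g ih =>
    intro hg j hj
    rcases eq_or_lt_of_le (show 1 ≤ g from hg) with rfl | h1
    · exact one_dvd _
    · have hd : Nat.gcd g M ≠ 1 := fun h => by
        have := Nat.Coprime.eq_one_of_dvd (Nat.Coprime.pow_right j h) hj
        omega
      obtain ⟨g', hg'⟩ := Nat.gcd_dvd_left g M
      have hg'pos : 0 < g' := Nat.pos_of_ne_zero fun h => by rw [h, Nat.mul_zero] at hg'; omega
      have hdpos : 0 < Nat.gcd g M := Nat.gcd_pos_of_pos_left M hg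
      have hlt : g' < g := by
        calc g' = 1 * g' := (Nat.one_mul g').symm
          _ < Nat.gcd g M * g' := Nat.mul_lt_mul_of_pos_right (by omega) hg'pos
          _ = g := hg'.symm
      have hsub : g' ∣ M ^ g' := ih g' hlt hg'pos j ((Dvd.intro_left _ hg'.symm).trans hj)
      rw [hg']
      refine (Nat.mul_dvd_mul (Nat.gcd_dvd_right g M) hsub).trans ?_
      rw [← pow_succ']
      exact pow_dvd_pow M (by rw [← hg']; omega)

theorem exists_bound_compact [IsLocallyNoetherian S] [LocallyOfFiniteType G.hom] {K : Set G.left} (hK : IsCompact K) :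
    ∃ N, 0 < N ∧ ∀ x ∈ K, x ∈ tauSet G → x ∈ powSet G N := by
  have h := fun x : G.left => exists_isAffineOpen_mem_and_subset (X := G.left) (x := x) (U := ⊤) trivial
  choose O hO hxO _ using h
  obtain ⟨F, hF⟩ := hK.elim_finite_subcover (fun x => (O x : Set G.left)) (fun x => (O x).isOpen)
    (fun x _ => Set.mem_iUnion.2 ⟨x, hxO x⟩)
  choose N hN hb using fun x => exists_bound G (hO x)
  refine ⟨∏ i ∈ F, N i, Finset.prod_pos fun i _ => hN i, fun x hx hτ => ?_⟩
  obtain ⟨i, hi, hxi⟩ := Set.mem_iUnion₂.1 (hF hx)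
  obtain ⟨c, hc⟩ := Finset.dvd_prod_of_mem N hi
  have h := mem_powSet_mul G (hb i x hxi hτ) c
  rwa [Nat.mul_comm, ← hc] at h

theorem isOpen_primarySet [IsLocallyNoetherian S] [IsCommMonObj G] [LocallyOfFiniteType G.hom] (p : ℕ)
    (hS : ∀ s : S, ringExpChar (S.residueField s) = p)
    (hopen : ∀ n : ℕ, 0 < n → Nat.Coprime n p → IsOpenMap (pw G n).base) :
    IsOpen {x : G.left | ∃ h : ℕ, x ∈ powSet G (p ^ h)} := by
  refine isOpen_iff_forall_mem_open.2 fun x₀ hx₀ => ?_
  obtain ⟨O, hO, hxO, -⟩ := exists_isAffineOpen_mem_and_subset (X := G.left) (x := x₀) (U := ⊤) trivial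
  haveI := Groth.L19.Limit.spectralSpace_opens hO
  have hp0 : 0 < p := by
    rw [← hS (G.hom x₀)]
    exact lt_of_lt_of_le zero_lt_one (le_max_right _ _)
  have hcl : IsClosed (O.ι ⁻¹' {x : G.left | ∃ h : ℕ, x ∈ powSet G (p ^ h)}ᶜ) := by
    refine Groth.L06.Spectral.isClosed_of_stableUnderSpecialization ?_ fun a b hab ha hb => ha ?_
    · have e : {x : G.left | ∃ h : ℕ, x ∈ powSet G (p ^ h)}ᶜ = ⋂ h : ℕ, (powSet G (p ^ h))ᶜ := by
        ext y
        simp only [Set.mem_compl_iff, Set.mem_setOf_eq, Set.mem_iInter, not_exists]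
      have hcc : Groth.L19.Limit.CC (⋂ h : ℕ, (powSet G (p ^ h))ᶜ) :=
        Groth.L19.Limit.CC.iInter (C := fun h : ℕ => (powSet G (p ^ h))ᶜ) fun h => cc_compl_powSet G _
      rw [← e] at hcc
      exact hcc O hO
    · have hzx : O.ι a ⤳ O.ι b := hab.map O.ι.continuous
      generalize O.ι a = z at hzx ⊢
      obtain ⟨h, hx⟩ := hb
      generalize O.ι b = x at hzx hx
      obtain ⟨m, hm, hzm⟩ := exists_pow_of_specializes G hzx (pow_pos hp0 h) hx
      obtain ⟨e₀, M, hMm, hcop⟩ : ∃ e₀ M, m = p ^ e₀ * M ∧ Nat.Coprime M p := by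
        rcases expChar_cases (S.residueField (G.hom x)) (hS (G.hom x)) with ⟨h1, -⟩ | ⟨hq, -⟩
        · exact ⟨0, m, by rw [pow_zero, Nat.one_mul], h1 ▸ Nat.coprime_one_right m⟩
        · obtain ⟨e₀, M, hM, rfl⟩ := Nat.exists_eq_pow_mul_and_not_dvd hm.ne' p hq.ne_one
          exact ⟨e₀, M, rfl, ((hq.coprime_iff_not_dvd).2 hM).symm⟩
      have hM0 : 0 < M := Nat.pos_of_ne_zero fun h => by rw [h, Nat.mul_zero] at hMm; omega
      let b' := max e₀ h
      let z' := pw G (p ^ b') z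
      let x' := pw G (p ^ b') x
      have hzx' : z' ⤳ x' := hzx.map (pw G _).continuous
      have hx' : x' ∈ SGA3x.neutralSet G := by
        obtain ⟨c, hc⟩ := pow_dvd_pow p (le_max_right e₀ h)
        show x ∈ powSet G (p ^ b')
        rw [hc, Nat.mul_comm]
        exact mem_powSet_mul G hx c
      have hz'M : pw G M z' ∈ SGA3x.neutralSet G := by
        rw [pw_pw]
        obtain ⟨c, hc⟩ := pow_dvd_pow p (le_max_left e₀ h)
        show z ∈ powSet G (p ^ b' * M)
        rw [show p ^ b' * M = c * m by rw [hc, hMm]; ring]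
        exact mem_powSet_mul G hzm c
      suffices z' ∈ SGA3x.neutralSet G from ⟨b', this⟩
      obtain ⟨V, hV, hsV, -⟩ := exists_isAffineOpen_mem_and_subset (X := S) (x := G.hom x') (U := ⊤) trivial
      haveI : IsAffine V.toScheme := hV
      haveI : LocallyOfFiniteType (res G V).hom := MorphismProperty.pullback_snd _ _ ‹LocallyOfFiniteType G.hom›
      obtain ⟨U', hU'c, hU'⟩ := Groth.Agent.S5323.result V.toScheme (res G V)
        (fun s => MorphismProperty.pullback_snd _ _ inferInstance)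
      obtain ⟨N, hN, hbd⟩ := exists_bound_compact G (hU'c.image (resι G V).continuous)
      have hcopN : Nat.Coprime (M ^ N) p := Nat.Coprime.pow_left N hcop
      have hne : ((M ^ N : ℕ) : S.residueField (G.hom x')) ≠ 0 := by
        rcases expChar_cases (S.residueField (G.hom x')) (hS (G.hom x')) with ⟨-, hz⟩ | ⟨hq, hchar⟩
        · haveI := hz
          exact Nat.cast_ne_zero.2 (pow_pos hM0 N).ne'
        · haveI := hchar
          rw [Ne, CharP.cast_eq_zero_iff (S.residueField (G.hom x')) p]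
          exact (hq.coprime_iff_not_dvd).1 hcopN.symm
      obtain ⟨y, hy, hys, hyx⟩ := exists_pw_eq G hx' (M ^ N) hne
      have hyU : y ∈ resι G V '' (U' : Set (res G V).left) := by
        obtain ⟨y', rfl⟩ := (range_resι G V).ge (show G.hom y ∈ (V : Set S) from hys ▸ hsV)
        exact ⟨y', hU' (by rw [neutral_res]; exact hy), rfl⟩
      have himg : z' ∈ (pw G (M ^ N)).base '' ((resι G V).base '' (U' : Set (res G V).left)) :=
        hzx'.mem_open
          (hopen _ (pow_pos hM0 N) hcopN _ ((resι G V).isOpenEmbedding.isOpenMap _ U'.isOpen)) ⟨y, hyU, hyx⟩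
      obtain ⟨w, hwU, hwz⟩ := himg
      have hwz' : pw G (M ^ N) w = z' := hwz
      have hwM : w ∈ powSet G (M ^ (N + 1)) := by
        show pw G (M ^ (N + 1)) w ∈ SGA3x.neutralSet G
        rw [pow_succ, ← pw_pw, hwz']
        exact hz'M
      have hwN : w ∈ powSet G N := hbd w hwU ⟨_, pow_pos hM0 _, hwM⟩
      have hg := mem_powSet_gcd G _ _ hwN hwM
      have hgle : Nat.gcd N (M ^ (N + 1)) ≤ N := Nat.le_of_dvd hN (Nat.gcd_dvd_left _ _)
      obtain ⟨c, hc⟩ := (dvd_pow_self_of_dvd_pow M _ (Nat.gcd_pos_of_pos_left _ hN) _ (Nat.gcd_dvd_right _ _)).trans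
        (pow_dvd_pow M hgle)
      have hfin := mem_powSet_mul G hg c
      rw [Nat.mul_comm, ← hc] at hfin
      rw [← hwz']
      exact hfin
  have ho : IsOpen (O.ι ⁻¹' {x : G.left | ∃ h : ℕ, x ∈ powSet G (p ^ h)}) := by
    have := hcl.isOpen_compl
    rwa [Set.preimage_compl, compl_compl] at this
  exact ⟨_, Set.image_preimage_subset _ _, O.ι.isOpenEmbedding.isOpenMap _ ho, ⟨⟨x₀, hxO⟩, hx₀, rfl⟩⟩

/-- The neutral set is open over the base at its points if the group is universally open there. -/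
theorem image_inter_neutral_mem_nhds [LocallyOfFinitePresentation G.hom] [QuasiSeparated G.hom]
    (hopen : ∀ x ∈ SGA3x.neutralSet G, EGA43.IsUnivOpenAt G.hom x) {x : G.left} (hx : x ∈ SGA3x.neutralSet G)
    {U : Set G.left} (hU : IsOpen U) (hxU : x ∈ U) :
    G.hom '' (U ∩ SGA3x.neutralSet G) ∈ nhds (G.hom x) := by
  obtain ⟨V, hV, hsV, -⟩ := exists_isAffineOpen_mem_and_subset (X := S) (x := G.hom x) (U := ⊤) trivial
  obtain ⟨U₀, hU₀, hxU₀, hU₀U⟩ := exists_isAffineOpen_mem_and_subset (X := G.left) (x := x)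
    (U := (⟨U, hU⟩ : G.left.Opens) ⊓ G.hom ⁻¹ᵁ V) ⟨hxU, hsV⟩
  haveI : IsAffine U₀.toScheme := hU₀
  haveI : IsAffine V.toScheme := hV
  let h : U₀.toScheme ⟶ Spec Γ(S, V) := IsOpenImmersion.lift hV.fromSpec (U₀.ι ≫ G.hom) (by
    rintro _ ⟨z, rfl⟩
    rw [hV.range_fromSpec]
    exact (hU₀U z.2).2)
  have hh : h ≫ hV.fromSpec = U₀.ι ≫ G.hom := IsOpenImmersion.lift_fac _ _ _
  haveI : LocallyOfFinitePresentation h := Groth.L23.lfp_of_comp_lft h hV.fromSpec (by rw [hh]; infer_instance)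
  have hE : Topology.IsConstructible (h '' (U₀.ι ⁻¹' SGA3x.neutralSet G)) :=
    h.isConstructible_image
      (((isLocallyConstructible G).preimage_of_isOpenEmbedding U₀.ι.isOpenEmbedding).isConstructible)
  let u₀ : U₀.toScheme := ⟨x, hxU₀⟩
  have hpt : ∀ u : U₀.toScheme, hV.fromSpec (h u) = G.hom (U₀.ι u) := fun u => by
    rw [← Scheme.Hom.comp_apply, hh]
    rfl
  have hnhds := Groth.L07.UnivOpenAt.mem_nhds_of_isConstructible hE (p := h u₀) fun q hq => by
    have hts : hV.fromSpec q ⤳ G.hom x := (show hV.fromSpec (h u₀) = G.hom x from hpt u₀) ▸ hq.map hV.fromSpec.continuous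
    set t := hV.fromSpec q with ht
    let e : S ⟶ G.left := (η[G] : 𝟙_ (Over S) ⟶ G).left
    have he : e ≫ G.hom = 𝟙 S := Over.w (η[G] : 𝟙_ (Over S) ⟶ G)
    obtain ⟨ξ, hfξ, hCe, hξC, hsp⟩ := Groth.L07.SectionComp.exists_generic G.hom e (isIrreducible_comp G t)
    have hdimC : ∀ y : S, topologicalKrullDim ↥(connectedComponentIn (G.hom.base ⁻¹' {y}) (e.base y)) =
        topologicalKrullDim ↥(G.hom.base ⁻¹' {y}) := fun y =>
      (Groth.L07.SectionComp.dim_eq_fibreDimAt_section G.hom e he (isIrreducible_comp G y)).trans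
        (Groth.Lead.GrpFibreDim.dim_eq G y).symm
    obtain ⟨Us, hUs, hc⟩ := dim_const_of_univOpenAt G (G.hom x) ⊤ trivial (fun y hy _ => hopen y hy.1)
    have hd : topologicalKrullDim ↥(connectedComponentIn (G.hom.base ⁻¹' {G.hom x}) (e.base (G.hom x))) ≤
        Groth.L07.Equidim.fdim G.hom ξ := by
      obtain ⟨Uo, hUo, hUoo, hxUo⟩ := mem_nhds_iff.1 hUs
      have e2 : Groth.L07.Equidim.fdim G.hom ξ =
          topologicalKrullDim ↥(connectedComponentIn (G.hom.base ⁻¹' {t}) (e.base t)) := by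
        rw [Groth.L07.Equidim.fdim, hfξ, ← hCe]
      rw [e2, hdimC, hdimC]
      exact (hc t (hUo (hts.mem_open hUoo hxUo))).ge
    have hζ : ξ ⤳ e t := hsp (e t) (e t) (Groth.L07.SectionComp.mem_comp G.hom e he t) specializes_rfl
      (by rw [← Scheme.Hom.comp_apply, he]; rfl)
    have hxcl := Groth.L07.SectionComp.subset_closure_of_dim_le G.hom e he hts hζ (isIrreducible_comp G (G.hom x)) hd
        (by rw [← sectionComponents_eq] at hx; exact hx)
    have hξU : ξ ∈ U₀ := (specializes_iff_mem_closure.2 hxcl).mem_open U₀.isOpen hxU₀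
    refine ⟨⟨ξ, hξU⟩, ?_, hV.fromSpec.isOpenEmbedding.injective ((hpt _).trans hfξ)⟩
    show ξ ∈ SGA3x.neutralSet G
    rw [← sectionComponents_eq]
    show ξ ∈ connectedComponentIn (G.hom ⁻¹' {G.hom ξ}) (e (G.hom ξ))
    rw [hfξ]
    exact hξC
  refine Filter.mem_of_superset ((hV.fromSpec.isOpenEmbedding.isOpenMap.image_mem_nhds hnhds : _) |> fun h' =>
    (show hV.fromSpec (h u₀) = G.hom x from hpt u₀) ▸ h') ?_
  rintro _ ⟨_, ⟨u, hu, rfl⟩, rfl⟩
  exact ⟨U₀.ι u, ⟨(hU₀U u.2).1, hu⟩, (hpt u).symm⟩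

end Groth.L02.NeutralOpen
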