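import Groth.Agent.L02.NeutralOpen.Pow
import Mathlib.AlgebraicGeometry.ResidueField
import Mathlib.Algebra.CharP.Defs
import Mathlib.NumberTheory.Divisors

/-!
# The torsion sets of a group scheme
-/

set_option autoImplicit false
set_option linter.style.haveILetI false
set_option backward.isDefEq.respectTransparency.types false
set_option backward.isDefEq.respectTransparency false
universe u

open scoped Topology
open CategoryTheory CategoryTheory.Limits MonoidalCategory CartesianMonoidalCategory MonObj AlgebraicGeometry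

namespace Groth.L02.NeutralOpen

/-- The characteristic exponent of a field is one in characteristic zero or the prime characteristic. -/
theorem expChar_cases (k : Type*) [Field k] {q : ℕ} (h : ringExpChar k = q) :
    (q = 1 ∧ CharZero k) ∨ (q.Prime ∧ CharP k q) := by
  rcases CharP.char_is_prime_or_zero k (ringChar k) with hp | h0
  · right
    rw [ringExpChar, max_eq_left hp.one_lt.le] at h
    exact ⟨h ▸ hp, h ▸ inferInstance⟩
  · left
    haveI : CharP k 0 := h0 ▸ ringChar.charP k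
    haveI : CharZero k := CharP.charP_to_charZero k
    exact ⟨by rw [← h, ringExpChar.eq_one], inferInstance⟩

variable {S : Scheme.{u}} [IsLocallyNoetherian S] (G : Over S) [GrpObj G] [LocallyOfFiniteType G.hom]

/-- The points some positive power of which lies in the neutral set. -/
def tauSet : Set G.left := {x | ∃ n, 0 < n ∧ x ∈ powSet G n}

theorem isOpen_tauSet : IsOpen (tauSet G) := by
  refine isOpen_iff_forall_mem_open.2 fun x hx => ?_
  obtain ⟨O, hO, hxO, -⟩ := exists_isAffineOpen_mem_and_subset (X := G.left) (x := x) (U := ⊤) trivial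
  haveI := Groth.L19.Limit.spectralSpace_opens hO
  have hcl : IsClosed (O.ι ⁻¹' (tauSet G)ᶜ) := by
    refine Groth.L06.Spectral.isClosed_of_stableUnderSpecialization ?_ fun a b hab ha hb => ?_
    · have e : (tauSet G)ᶜ = ⋂ n : {n : ℕ // 0 < n}, (powSet G n.1)ᶜ := by
        ext y
        simp only [tauSet, Set.mem_compl_iff, Set.mem_setOf_eq, Set.mem_iInter, Subtype.forall, not_exists, not_and]
      have hcc : Groth.L19.Limit.CC (⋂ n : {n : ℕ // 0 < n}, (powSet G n.1)ᶜ) :=
        Groth.L19.Limit.CC.iInter (C := fun n : {n : ℕ // 0 < n} => (powSet G n.1)ᶜ) fun n => cc_compl_powSet G n.1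
      rw [← e] at hcc
      exact hcc O hO
    · obtain ⟨n, hn, hb⟩ := hb
      exact ha (exists_pow_of_specializes G (hab.map O.ι.continuous) hn hb)
  have ho : IsOpen (O.ι ⁻¹' tauSet G) := by
    have := hcl.isOpen_compl
    rwa [Set.preimage_compl, compl_compl] at this
  exact ⟨_, Set.image_preimage_subset _ _, O.ι.isOpenEmbedding.isOpenMap _ ho, ⟨⟨x, hxO⟩, hx, rfl⟩⟩

/-- On an affine open the orders are bounded. -/
theorem exists_bound {O : G.left.Opens} (hO : IsAffineOpen O) :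
    ∃ N, 0 < N ∧ ∀ x ∈ O, x ∈ tauSet G → x ∈ powSet G N := by
  haveI : IsAffine O.toScheme := hO
  haveI : IsLocallyNoetherian G.left := LocallyOfFiniteType.isLocallyNoetherian G.hom
  haveI : IsNoetherian O.toScheme := {}
  haveI : TopologicalSpace.NoetherianSpace O.toScheme := IsNoetherian.noetherianSpace
  haveI := Groth.L19.Limit.spectralSpace_opens hO
  have hc : IsClosed[constructibleTopology O.toScheme] (O.ι ⁻¹' tauSet G) :=
    (Groth.L06.Spectral.isClopen_cons_of_isConstructible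
      (Groth.L06.Constr.isConstructible_of_isOpen ((isOpen_tauSet G).preimage O.ι.continuous))).1
  obtain ⟨F, hF⟩ := @IsCompact.elim_finite_subcover O.toScheme (constructibleTopology O.toScheme) _ _
    (Groth.L06.Spectral.isCompact_cons_of_isClosed hc) (fun n : {n : ℕ // 0 < n} => O.ι ⁻¹' powSet G n.1)
    (fun n => by
      have := (cc_compl_powSet G n.1) O hO
      rw [Set.preimage_compl] at this
      exact (@isClosed_compl_iff O.toScheme (constructibleTopology O.toScheme) _).1 this)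
    (fun y ⟨n, hn, hy⟩ => Set.mem_iUnion.2 ⟨⟨n, hn⟩, hy⟩)
  refine ⟨∏ n ∈ F, n.1, Finset.prod_pos fun n _ => n.2, fun x hx hτ => ?_⟩
  obtain ⟨n, hn, hxn⟩ := Set.mem_iUnion₂.1 (hF (show (⟨x, hx⟩ : O.toScheme) ∈ O.ι ⁻¹' tauSet G from hτ))
  obtain ⟨c, hc⟩ := Finset.dvd_prod_of_mem (fun n : {n : ℕ // 0 < n} => n.1) hn
  have h := mem_powSet_mul G (show x ∈ powSet G n.1 from hxn) c
  rwa [Nat.mul_comm, ← hc] at h

theorem isClosed_of_affine {E : Set G.left}
    (h : ∀ O : G.left.Opens, IsAffineOpen O → ∃ C, IsClosed C ∧ E ∩ (O : Set G.left) = C ∩ (O : Set G.left)) : IsClosed E := by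
  refine ⟨isOpen_iff_forall_mem_open.2 fun x hx => ?_⟩
  obtain ⟨O, hO, hxO, -⟩ := exists_isAffineOpen_mem_and_subset (X := G.left) (x := x) (U := ⊤) trivial
  obtain ⟨C, hC, he⟩ := h O hO
  refine ⟨(O : Set G.left) ∩ Cᶜ, fun y hy hyE => hy.2 (he.le ⟨hyE, hy.1⟩).1, O.isOpen.inter hC.isOpen_compl,
    hxO, fun hxC => hx (he.ge ⟨hxC, hxO⟩).1⟩

theorem isClosed_tauSet (h0 : IsClosed (SGA3x.neutralSet G)) : IsClosed (tauSet G) := by
  refine isClosed_of_affine G fun O hO => ?_
  obtain ⟨N, hN, hb⟩ := exists_bound G hO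
  refine ⟨powSet G N, h0.preimage (pw G N).continuous, Set.ext fun x => ?_⟩
  exact ⟨fun h => ⟨hb x h.2 h.1, h.2⟩, fun h => ⟨⟨N, hN, h.1⟩, h.2⟩⟩

/-- The points whose residue characteristic exponent has `d` as a power. -/
def powCharSet (p : S → ℕ) (d : ℕ) : Set G.left := {x | ∃ h : ℕ, d = p (G.hom x) ^ h}

omit [GrpObj G] [LocallyOfFiniteType G.hom] [IsLocallyNoetherian S] in
theorem isClosed_powCharSet (p : S → ℕ) (hp : ∀ s : S, ringExpChar (S.residueField s) = p s) (d : ℕ) :
    IsClosed (powCharSet G p d) := by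
  by_cases hne : (powCharSet G p d).Nonempty
  swap
  · rw [Set.not_nonempty_iff_eq_empty.1 hne]; exact isClosed_empty
  rcases eq_or_ne d 1 with rfl | hd1
  · convert isClosed_univ
    exact Set.eq_univ_of_forall fun x => ⟨0, (pow_zero _).symm⟩
  obtain ⟨x₀, h₀, hd₀⟩ := hne
  have hpp := fun x : S => expChar_cases (S.residueField x) (hp x)
  rcases hpp (G.hom x₀) with ⟨h1, -⟩ | ⟨hq, hchar⟩
  · rw [h1, one_pow] at hd₀; exact absurd hd₀ hd1
  have h₀pos : h₀ ≠ 0 := fun h => hd1 (by rw [hd₀, h, pow_zero])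
  have key : ∀ x : G.left, x ∈ powCharSet G p d ↔ G.hom x ∉ S.basicOpen ((d : ℕ) : Γ(S, ⊤)) := fun x => by
    rw [← Scheme.evaluation_eq_zero_iff_notMem_basicOpen (U := ⊤) (x := G.hom x) (hx := trivial), map_natCast]
    constructor
    · rintro ⟨h, hh⟩
      rcases hpp (G.hom x) with ⟨h1, -⟩ | ⟨hq', hchar'⟩
      · rw [h1, one_pow] at hh; exact absurd hh hd1
      · have hh0 : h ≠ 0 := fun e => hd1 (by rw [hh, e, pow_zero])
        haveI := hchar'
        rw [hh, Nat.cast_pow, CharP.cast_eq_zero, zero_pow hh0]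
    · intro hz
      rcases hpp (G.hom x) with ⟨-, hz0⟩ | ⟨hq', hchar'⟩
      · haveI := hz0
        exact absurd (Nat.cast_eq_zero.1 hz) (hd₀ ▸ (pow_pos hq.pos _).ne')
      · haveI := hchar'
        have hdvd := (CharP.cast_eq_zero_iff (S.residueField (G.hom x)) (p (G.hom x)) d).1 hz
        rw [hd₀] at hdvd
        have := (Nat.prime_dvd_prime_iff_eq hq' hq).1 (hq'.dvd_of_dvd_pow hdvd)
        exact ⟨h₀, this ▸ hd₀⟩
  have : powCharSet G p d = G.hom ⁻¹' ((S.basicOpen ((d : ℕ) : Γ(S, ⊤)) : S.Opens) : Set S)ᶜ := Set.ext key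
  rw [this]
  exact (S.basicOpen _).isOpen.isClosed_compl.preimage G.hom.continuous

theorem isClosed_rhoSet (h0 : IsClosed (SGA3x.neutralSet G)) (p : S → ℕ)
    (hp : ∀ s : S, ringExpChar (S.residueField s) = p s) :
    IsClosed {x : G.left | ∃ h m : ℕ, m = p (G.hom x) ^ h ∧ x ∈ powSet G m} := by
  refine isClosed_of_affine G fun O hO => ?_
  obtain ⟨N, hN, hb⟩ := exists_bound G hO
  refine ⟨⋃ d ∈ N.divisors, powSet G d ∩ powCharSet G p d,
    N.divisors.finite_toSet.isClosed_biUnion fun d _ => (h0.preimage (pw G d).continuous).inter (isClosed_powCharSet G p hp d),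
    Set.ext fun x => ⟨?_, ?_⟩⟩
  · rintro ⟨⟨h, m, rfl, hm⟩, hxO⟩
    refine ⟨?_, hxO⟩
    rcases expChar_cases (S.residueField (G.hom x)) (hp (G.hom x)) with ⟨h1, -⟩ | ⟨hq, -⟩
    · rw [h1] at hm
      exact Set.mem_biUnion (Nat.mem_divisors.2 ⟨one_dvd N, hN.ne'⟩)
        ⟨by rwa [one_pow] at hm, 0, (pow_zero _).symm⟩
    · have hτ : x ∈ tauSet G := ⟨_, pow_pos hq.pos h, hm⟩
      obtain ⟨j, -, hj⟩ := (Nat.dvd_prime_pow hq).1 (Nat.gcd_dvd_left (p (G.hom x) ^ h) N)
      exact Set.mem_biUnion (Nat.mem_divisors.2 ⟨Nat.gcd_dvd_right (p (G.hom x) ^ h) N, hN.ne'⟩)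
        ⟨mem_powSet_gcd G _ _ hm (hb x hxO hτ), j, hj⟩
  · rintro ⟨hx, hxO⟩
    obtain ⟨d, -, hd, h, hh⟩ := Set.mem_iUnion₂.1 hx
    exact ⟨⟨h, d, hh, hd⟩, hxO⟩

theorem isLocallyConstructible_orderSet (n : ℕ) :
    Topology.IsLocallyConstructible {x : G.left | x ∈ powSet G n ∧ ∀ d : ℕ, 0 < d → d < n → x ∉ powSet G d} := by
  refine L02.ConsP.isLocallyConstructible_of_affine fun U hU => ?_
  haveI := Groth.L19.Limit.spectralSpace_of_isAffine (Spec Γ(G.left, U))
  have hcl : ∀ d : ℕ, @IsClopen _ (constructibleTopology _) (hU.fromSpec ⁻¹' powSet G d) := fun d =>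
    ⟨((cc_powSet G d).preimage hU.fromSpec).isClosed_of_isAffine, by
      have := ((cc_compl_powSet G d).preimage hU.fromSpec).isClosed_of_isAffine
      rw [Set.preimage_compl] at this
      exact (@isClosed_compl_iff _ (constructibleTopology _) _).1 this⟩
  have hc : ∀ d : ℕ, Topology.IsConstructible (hU.fromSpec ⁻¹' powSet G d) := fun d =>
    Groth.L06.Spectral.isConstructible_of_isClopen_cons (hcl d)
  have e : hU.fromSpec ⁻¹' {x : G.left | x ∈ powSet G n ∧ ∀ d : ℕ, 0 < d → d < n → x ∉ powSet G d} =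
      (hU.fromSpec ⁻¹' powSet G n) \ ⋃ d ∈ (Set.Ioo 0 n), hU.fromSpec ⁻¹' powSet G d := by
    ext x; simp [and_imp]
  rw [e]
  exact (hc n).sdiff (Topology.IsConstructible.biUnion (Set.finite_Ioo 0 n) fun d _ => hc d)

end Groth.L02.NeutralOpen
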