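import Groth.Agent.L02.NeutralOpen.Cons
import Groth.Agent.L02.NeutralOpen.UnivOpen
import Groth.Agent.L06.ProCons
import Groth.Agent.L07.UnivOpenAt
import Groth.Agent.L07.SectionComp
import Groth.Agent.L25.Actions
import Groth.Agent.S5322

/-!
# Translates of opens by the neutral set of a group scheme with locally constant fibre dimension
-/

set_option autoImplicit false
set_option linter.style.haveILetI false
set_option backward.isDefEq.respectTransparency.types false
set_option backward.isDefEq.respectTransparency false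
universe u

open scoped Topology
open CategoryTheory CategoryTheory.Limits MonoidalCategory CartesianMonoidalCategory MonObj AlgebraicGeometry
open Groth.L25

namespace Groth.L02.NeutralOpen

variable {S : Scheme.{u}} (G : Over S) [GrpObj G] [LocallyOfFinitePresentation G.hom]

/-- No quasi-separatedness: a universally open neutral set is open over the base. -/
theorem image_inter_neutral_mem_nhds' (hopen : ∀ x ∈ SGA3x.neutralSet G, EGA43.IsUnivOpenAt G.hom x) {x : G.left}
    (hx : x ∈ SGA3x.neutralSet G) {U : Set G.left} (hU : IsOpen U) (hxU : x ∈ U) :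
    G.hom '' (U ∩ SGA3x.neutralSet G) ∈ nhds (G.hom x) := by
  rw [← mem_interior_iff_mem_nhds]
  have hcc : Groth.L19.Limit.CC (U ∩ SGA3x.neutralSet G)ᶜ := by
    rw [Set.compl_inter]
    exact (Groth.L19.Limit.cc_of_isClosed hU.isClosed_compl).union
      (Groth.L19.Limit.cc_compl_of_isIndConstructible (isIndConstructible G))
  refine (Groth.L06.ProCons.mem_interior_iff (Groth.L06.ProCons.cc_compl_image G.hom hcc) (G.hom x)).2 fun t hts => ?_
  let e : S ⟶ G.left := (η[G] : 𝟙_ (Over S) ⟶ G).left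
  have he : e ≫ G.hom = 𝟙 S := Over.w (η[G] : 𝟙_ (Over S) ⟶ G)
  obtain ⟨ξ, hfξ, hCe, hξC, hsp⟩ := Groth.L07.SectionComp.exists_generic G.hom e (isIrreducible_comp G t)
  have hdimC : ∀ y : S, topologicalKrullDim ↥(connectedComponentIn (G.hom.base ⁻¹' {y}) (e.base y)) =
      topologicalKrullDim ↥(G.hom.base ⁻¹' {y}) := fun y =>
    (Groth.L07.SectionComp.dim_eq_fibreDimAt_section G.hom e he (isIrreducible_comp G y)).trans
      (Groth.Lead.GrpFibreDim.dim_eq G y).symm
  obtain ⟨Us, hUs, hc⟩ := dim_const_of_univOpenAt G (G.hom x) ⊤ trivial (fun y hy _ => hopen y hy.1)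
  have hd : topologicalKrullDim ↥(connectedComponentIn (G.hom.base ⁻¹' {G.hom x}) (e.base (G.hom x))) ≤
      Groth.L07.Equidim.fdim G.hom ξ := by
    obtain ⟨Uo, hUo, hUoo, hxUo⟩ := mem_nhds_iff.1 hUs
    have e2 : Groth.L07.Equidim.fdim G.hom ξ =
        topologicalKrullDim ↥(connectedComponentIn (G.hom.base ⁻¹' {t}) (e.base t)) := by
      rw [Groth.L07.Equidim.fdim, hfξ, ← hCe]
    rw [e2, hdimC, hdimC]
    exact (hc t (hUo (hts.mem_open hUoo hxUo))).ge
  have hζ : ξ ⤳ e t := hsp (e t) (e t) (Groth.L07.SectionComp.mem_comp G.hom e he t) specializes_rfl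
    (by rw [← Scheme.Hom.comp_apply, he]; rfl)
  have hxcl := Groth.L07.SectionComp.subset_closure_of_dim_le G.hom e he hts hζ (isIrreducible_comp G (G.hom x)) hd
    (by rw [← sectionComponents_eq] at hx; exact hx)
  refine ⟨ξ, ⟨(specializes_iff_mem_closure.2 hxcl).mem_open hU hxU, ?_⟩, hfξ⟩
  rw [← sectionComponents_eq]
  show ξ ∈ connectedComponentIn (G.hom ⁻¹' {G.hom ξ}) (e (G.hom ξ))
  rw [hfξ]
  exact hξC

variable (hdim : IsLocallyConstant (fun s : S => topologicalKrullDim ↥(G.hom.base ⁻¹' {s})))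

include hdim in
theorem isUnivOpenAt_of_isLocallyConstant {x : G.left} (hx : x ∈ SGA3x.neutralSet G) :
    EGA43.IsUnivOpenAt G.hom x :=
  univOpenAt_of_dim_const G (G.hom x)
    ⟨_, (hdim.isOpen_fiber _).mem_nhds rfl, fun _ ht => ht⟩ hx rfl

theorem mem_neutral_bc (T : Over S) (p : (G ⊗ T).left) :
    (p : (Red.bc T.hom G).left) ∈ SGA3x.neutralSet (Red.bc T.hom G) ↔ (fst G T).left p ∈ SGA3x.neutralSet G := by
  rw [Groth.Agent.S5322.result]
  rfl

include hdim in
/-- Near a point over the neutral set, the projection `G ×_S T ⟶ T` is open along the neutral set. -/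
theorem image_snd_mem_nhds (T : Over S) {p : (G ⊗ T).left} (hp : (fst G T).left p ∈ SGA3x.neutralSet G)
    {W : Set (G ⊗ T).left} (hW : IsOpen W) (hpW : p ∈ W) :
    (snd G T).left '' (W ∩ (fst G T).left ⁻¹' SGA3x.neutralSet G) ∈ nhds ((snd G T).left p) := by
  haveI : LocallyOfFinitePresentation (Red.bc T.hom G).hom :=
    MorphismProperty.pullback_snd _ _ ‹LocallyOfFinitePresentation G.hom›
  have hopen : ∀ x ∈ SGA3x.neutralSet (Red.bc T.hom G), EGA43.IsUnivOpenAt (Red.bc T.hom G).hom x := fun x hx => by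
    rw [Groth.Agent.S5322.result] at hx
    exact Groth.L07.UnivOpenAt.baseChange (IsPullback.of_hasPullback G.hom T.hom)
      (isUnivOpenAt_of_isLocallyConstant G hdim hx) x rfl
  have h := image_inter_neutral_mem_nhds' (Red.bc T.hom G) hopen ((mem_neutral_bc G T p).2 hp) hW hpW
  rw [Groth.Agent.S5322.result] at h
  exact h

theorem isIrreducible_neutral_over (T : Over S) (t : T.left) :
    IsIrreducible ((fst G T).left ⁻¹' SGA3x.neutralSet G ∩ (snd G T).left ⁻¹' {t}) := by
  haveI : LocallyOfFinitePresentation (Red.bc T.hom G).hom :=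
    MorphismProperty.pullback_snd _ _ ‹LocallyOfFinitePresentation G.hom›
  have h := isIrreducible_comp (Red.bc T.hom G) t
  rw [comp_eq, ← Groth.Lead.Neutral.neutralSet_inter, Groth.Agent.S5322.result] at h
  exact h

section Coinc

variable {T T' X Y : Over S}

omit [GrpObj G] [LocallyOfFinitePresentation G.hom]

/-- The points where two morphisms agree on some point with values in a scheme. -/
def coinc (f₁ f₂ : T ⟶ X) : Set T.left :=
  {t | ∃ (Z : Over S) (P : Z ⟶ T), t ∈ Set.range P.left ∧ P ≫ f₁ = P ≫ f₂}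

theorem coinc_eq_range (f₁ f₂ : T ⟶ X) :
    coinc f₁ f₂ = Set.range (pullback.fst (lift f₁ f₂) (lift (𝟙 X) (𝟙 X))).left := by
  have hc := pullback.condition (f := lift f₁ f₂) (g := lift (𝟙 X) (𝟙 X))
  have h1 := hc =≫ fst X X
  have h2 := hc =≫ snd X X
  simp only [Category.assoc, lift_fst, lift_snd, Category.comp_id] at h1 h2
  ext t
  constructor
  · rintro ⟨Z, P, ⟨z, rfl⟩, h⟩
    refine ⟨(pullback.lift P (P ≫ f₁) ?_ : Z ⟶ pullback (lift f₁ f₂) (lift (𝟙 X) (𝟙 X))).left z, ?_⟩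
    · rw [comp_lift, comp_lift, Category.comp_id, h]
    · rw [← Scheme.Hom.comp_apply, ← Over.comp_left, pullback.lift_fst]
  · rintro h
    exact ⟨_, pullback.fst (lift f₁ f₂) (lift (𝟙 X) (𝟙 X)), h, h1.trans h2.symm⟩

theorem isClosed_coinc [IsSeparated X.hom] (f₁ f₂ : T ⟶ X) : IsClosed (coinc f₁ f₂) := by
  rw [coinc_eq_range]
  have hΔ : IsClosedImmersion (lift (𝟙 X) (𝟙 X)).left := by
    have e : (lift (𝟙 X) (𝟙 X)).left = pullback.diagonal X.hom := by
      rw [Over.lift_left]; rfl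
    rw [e]; infer_instance
  haveI : IsClosedImmersion (pullback.fst (lift f₁ f₂) (lift (𝟙 X) (𝟙 X))).left :=
    MorphismProperty.of_isPullback (P := @IsClosedImmersion)
      ((IsPullback.of_hasPullback (lift f₁ f₂) (lift (𝟙 X) (𝟙 X))).map (Over.forget S)).flip (by exact hΔ)
  exact (pullback.fst (lift f₁ f₂) (lift (𝟙 X) (𝟙 X))).left.isClosedEmbedding.isClosed_range

theorem coinc_comp (g : T' ⟶ T) (f₁ f₂ : T ⟶ X) : coinc (g ≫ f₁) (g ≫ f₂) = g.left ⁻¹' coinc f₁ f₂ := by
  ext t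
  constructor
  · rintro ⟨Z, P, ⟨z, rfl⟩, h⟩
    exact ⟨Z, P ≫ g, ⟨z, rfl⟩, by simpa only [Category.assoc] using h⟩
  · rintro ⟨Z, P, ⟨z, hz⟩, h⟩
    have sq := IsPullback.of_hasPullback P g
    obtain ⟨w, -, hw⟩ := Scheme.exists_preimage_of_isPullback (sq.map (Over.forget S)) z t hz
    refine ⟨_, pullback.snd P g, ⟨w, hw⟩, ?_⟩
    rw [← Category.assoc, ← Category.assoc, ← sq.w, Category.assoc, Category.assoc, h]

theorem coinc_mono (f₁ f₂ : T ⟶ X) (j : X ⟶ Y) [Mono j] : coinc (f₁ ≫ j) (f₂ ≫ j) = coinc f₁ f₂ := by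
  ext t
  exact exists_congr fun Z => exists_congr fun P => and_congr_right fun _ =>
    ⟨fun h => (cancel_mono j).1 (by simpa only [Category.assoc] using h), fun h => by rw [reassoc_of% h]⟩

theorem coinc_translate [GrpObj G] (a : AlgGrp.Action G X) (g : T ⟶ G) (f₁ f₂ : T ⟶ X) :
    coinc (lift g f₁ ≫ a.act) (lift g f₂ ≫ a.act) = coinc f₁ f₂ := by
  ext t
  refine exists_congr fun Z => exists_congr fun P => and_congr_right fun _ => ?_
  rw [← Category.assoc, ← Category.assoc, comp_lift, comp_lift]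
  refine ⟨fun h => ?_, fun h => by rw [h]⟩
  have := congrArg (fun x => lift (P ≫ g)⁻¹ x ≫ a.act) h
  simpa only [Actions.inv_act] using this

end Coinc

variable {X : Over S} (a : AlgGrp.Action G X)

/-- The translates of a set by the neutral set. -/
def translates (U : Set X.left) : Set X.left :=
  a.act.left '' {z : (G ⊗ X).left | (fst G X).left z ∈ SGA3x.neutralSet G ∧ (snd G X).left z ∈ U}

/-- `(g, x) ↦ (g⁻¹, g x)`. -/
noncomputable def back : G ⊗ X ⟶ G ⊗ X := lift (fst G X)⁻¹ a.act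

theorem back_act : back G a ≫ a.act = snd G X := by
  have e : a.act = lift (fst G X) (snd G X) ≫ a.act := by simp
  rw [back]
  conv_lhs => arg 1; arg 2; rw [e]
  exact Actions.inv_act a _ _

theorem back_fst_mem {z : (G ⊗ X).left} (hz : (fst G X).left z ∈ SGA3x.neutralSet G) :
    (fst G X).left ((back G a).left z) ∈ SGA3x.neutralSet G := by
  rw [← Scheme.Hom.comp_apply, ← Over.comp_left, back, lift_fst, ← GrpObj.comp_inv (fst G X) (𝟙 G) |>.trans
    (congrArg (fun f => f⁻¹) (Category.comp_id _)), ← GrpObj.inv_eq_inv]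
  rw [Over.comp_left, Scheme.Hom.comp_apply]
  exact inv_mem G hz

include hdim in
theorem isOpen_translates {U : Set X.left} (hU : IsOpen U) : IsOpen (translates G a U) := by
  rw [isOpen_iff_mem_nhds]
  rintro _ ⟨z, ⟨hz1, hz2⟩, rfl⟩
  let q := (Actions.shear a).hom.left z
  have hq1 : (fst G X).left q = (fst G X).left z := by
    show (fst G X).left ((lift (fst G X) a.act).left z) = _
    rw [← Scheme.Hom.comp_apply, ← Over.comp_left, lift_fst]
  have hq2 : (snd G X).left q = a.act.left z := by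
    show (snd G X).left ((lift (fst G X) a.act).left z) = _
    rw [← Scheme.Hom.comp_apply, ← Over.comp_left, lift_snd]
  have hqz : (Actions.shear a).inv.left q = z := by
    rw [← Scheme.Hom.comp_apply, ← Over.comp_left, Iso.hom_inv_id]; rfl
  have h := image_snd_mem_nhds G hdim X (p := q) (hq1 ▸ hz1)
    (hU.preimage ((Actions.shear a).inv ≫ snd G X).left.continuous)
    (show ((Actions.shear a).inv ≫ snd G X).left q ∈ U by rw [Over.comp_left, Scheme.Hom.comp_apply, hqz]; exact hz2)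
  rw [hq2] at h
  refine Filter.mem_of_superset h ?_
  rintro _ ⟨w, ⟨hw1, hw2⟩, rfl⟩
  refine ⟨(Actions.shear a).inv.left w, ⟨?_, hw1⟩, ?_⟩
  · show (fst G X).left _ ∈ _
    rw [← Scheme.Hom.comp_apply, ← Over.comp_left, show (Actions.shear a).inv ≫ fst G X = fst G X from lift_fst _ _]
    exact hw2
  · have e : (Actions.shear a).inv ≫ a.act = snd G X := by
      rw [Iso.inv_comp_eq, Actions.shear_hom_snd]
    rw [← Scheme.Hom.comp_apply, ← Over.comp_left, e]

include hdim in
/-- Outside the coincidence of two maps into the translates of a separated open, there is a neighbourhood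
avoiding the coincidence. -/
theorem compl_coinc_mem_nhds (U : X.left.Opens) [IsSeparated (U.ι ≫ X.hom)] {T : Over S} (f₁ f₂ : T ⟶ X)
    {t : T.left} (h₁ : f₁.left t ∈ translates G a U) (h₂ : f₂.left t ∈ translates G a U) (ht : t ∉ coinc f₁ f₂) :
    (coinc f₁ f₂)ᶜ ∈ nhds t := by
  let φ : (T ⟶ X) → (G ⊗ T ⟶ X) := fun f => (G ◁ f) ≫ a.act
  let N : Set (G ⊗ T).left := (fst G T).left ⁻¹' SGA3x.neutralSet G ∩ (snd G T).left ⁻¹' {t}
  have hne : ∀ f : T ⟶ X, f.left t ∈ translates G a U → (N ∩ (φ f).left ⁻¹' (U : Set X.left)).Nonempty := by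
    rintro f ⟨z, ⟨hz1, hz2⟩, hzt⟩
    have hb2 : (snd G X).left ((back G a).left z) = f.left t := by
      rw [← Scheme.Hom.comp_apply, ← Over.comp_left, back, lift_snd, hzt]
    obtain ⟨p, hp1, hp2⟩ := Scheme.exists_preimage_of_isPullback (Actions.isPullback_whiskerLeft_left G f)
      ((back G a).left z) t hb2
    refine ⟨p, ⟨?_, hp2⟩, ?_⟩
    · show (fst G T).left p ∈ SGA3x.neutralSet G
      rw [show fst G T = (G ◁ f) ≫ fst G X from (whiskerLeft_fst _ _).symm, Over.comp_left, Scheme.Hom.comp_apply, hp1]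
      exact back_fst_mem G a hz1
    · show ((G ◁ f) ≫ a.act).left p ∈ U
      rw [Over.comp_left, Scheme.Hom.comp_apply, hp1, ← Scheme.Hom.comp_apply, ← Over.comp_left, back_act]
      exact hz2
  obtain ⟨p, hpN, hp₁, hp₂⟩ := (isIrreducible_neutral_over G T t).2 _ _ (U.isOpen.preimage (φ f₁).left.continuous)
    (U.isOpen.preimage (φ f₂).left.continuous) (hne f₁ h₁) (hne f₂ h₂)
  let O : (G ⊗ T).left.Opens := ((φ f₁).left ⁻¹ᵁ U) ⊓ ((φ f₂).left ⁻¹ᵁ U)
  let O' : Over S := Over.mk (O.ι ≫ (G ⊗ T).hom)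
  let iO : O' ⟶ G ⊗ T := Over.homMk O.ι rfl
  let U' : Over S := Over.mk (U.ι ≫ X.hom)
  let iU : U' ⟶ X := Over.homMk U.ι rfl
  haveI : Mono iU := Over.mono_of_mono_left iU
  haveI : IsSeparated U'.hom := ‹IsSeparated (U.ι ≫ X.hom)›
  have hl : ∀ f : T ⟶ X, (∀ o : O'.left, (φ f).left (O.ι o) ∈ U) → ∃ ψ : O' ⟶ U', ψ ≫ iU = iO ≫ φ f := by
    intro f hf
    let l : O.toScheme ⟶ U.toScheme := IsOpenImmersion.lift U.ι (O.ι ≫ (φ f).left) (by
      rw [Scheme.Opens.range_ι]; rintro _ ⟨o, rfl⟩; exact hf o)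
    have hl : l ≫ U.ι = O.ι ≫ (φ f).left := IsOpenImmersion.lift_fac _ _ _
    exact ⟨Over.homMk l (by show l ≫ U.ι ≫ X.hom = O.ι ≫ (G ⊗ T).hom; rw [← Category.assoc, hl, Category.assoc, Over.w]),
      Over.OverMorphism.ext hl⟩
  obtain ⟨ψ₁, hψ₁⟩ := hl f₁ fun o => o.2.1
  obtain ⟨ψ₂, hψ₂⟩ := hl f₂ fun o => o.2.2
  have hφ : ∀ f : T ⟶ X, φ f = lift (fst G T) (snd G T ≫ f) ≫ a.act := fun f => by
    show (G ◁ f) ≫ a.act = _
    congr 1
  have key : coinc ψ₁ ψ₂ = O.ι ⁻¹' ((snd G T).left ⁻¹' coinc f₁ f₂) := by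
    rw [← coinc_mono ψ₁ ψ₂ iU, hψ₁, hψ₂, coinc_comp, hφ, hφ, coinc_translate G a, coinc_comp]
    rfl
  have hop : IsOpen ((O : Set (G ⊗ T).left) \ (snd G T).left ⁻¹' coinc f₁ f₂) := by
    have := O.ι.isOpenEmbedding.isOpenMap _ (isClosed_coinc ψ₁ ψ₂).isOpen_compl
    rwa [key, ← Set.preimage_compl, Set.image_preimage_eq_inter_range, Scheme.Opens.range_ι, Set.inter_comm,
      ← Set.diff_eq] at this
  have h := image_snd_mem_nhds G hdim T hpN.1 hop ⟨⟨hp₁, hp₂⟩, fun h => ht (by
    rw [Set.mem_preimage, show (snd G T).left p = t from hpN.2] at h; exact h)⟩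
  rw [show (snd G T).left p = t from hpN.2] at h
  refine Filter.mem_of_superset h ?_
  rintro _ ⟨w, ⟨hw, -⟩, rfl⟩
  exact hw.2

end Groth.L02.NeutralOpen
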